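import Cfsg.Agent.H704.Spor49.ONan
import Cfsg.Agent.H710.Spor.HNMix
import Cfsg.Agent.HN.Distinct

/-!
# The row of `HN` for S4849 (helper704)

An element of order 11 of `HN` has centralizer of order 22: it fixes exactly one coset of `H = 2.HS.2`, since the
lengths of the non-trivial suborbits are divisible by 11. Hence there is a character of 11-defect zero, and no element
has order 209.
-/

set_option autoImplicit false
set_option maxRecDepth 100000

namespace Cfsg.Agent.H704.Spor49.Harada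

open Cfsg Subgroup Cfsg.Agent.H713 Cfsg.Agent.H665.NoPQ Cfsg.Agent.H713.Count
open Cfsg.Agent.HN.Pres Cfsg.Agent.HN.H0Basic Cfsg.Agent.H710.Spor.HNMix
open Cfsg.Agent.HN.NormalH (H) 
open Cfsg.Agent.HN.DCover (w9)
open Cfsg.Agent.HN.Index (balance kk)
open Cfsg.Agent.HN.Count (sz pnt)

/-- The lengths of the suborbits are divisible by 11. -/
theorem dvd_sz (i : Fin 9) (hi : i ≠ 0) : 11 ∣ sz H (w9 i) := by
  have hdis := Cfsg.Agent.HN.Distinct.hdis
  have s0 : sz H (w9 0) = 1 := by rw [Cfsg.Agent.HN.Index.w9_zero]; exact Cfsg.Agent.HN.Count.sz_one H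
  have s1 : sz H (w9 0) * 1408 = sz H (w9 1) * 1 := balance hdis 0 1
  have s2 : sz H (w9 1) * 50 = sz H (w9 2) * 32 := balance hdis 1 2
  have s3 : sz H (w9 1) * 450 = sz H (w9 3) * 18 := balance hdis 1 3
  have s4 : sz H (w9 1) * 350 = sz H (w9 4) * 4 := balance hdis 1 4
  have s5 : sz H (w9 1) * 504 = sz H (w9 5) * 2 := balance hdis 1 5
  have s6 : sz H (w9 2) * 672 = sz H (w9 6) * 2 := balance hdis 2 6
  have s7 : sz H (w9 6) * 10 = sz H (w9 7) * 1280 := balance hdis 6 7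
  have s8 : sz H (w9 6) * 240 = sz H (w9 8) * 640 := balance hdis 6 8
  fin_cases i
  · exact absurd rfl hi
  · show 11 ∣ sz H (w9 1)
    omega
  · show 11 ∣ sz H (w9 2)
    omega
  · show 11 ∣ sz H (w9 3)
    omega
  · show 11 ∣ sz H (w9 4)
    omega
  · show 11 ∣ sz H (w9 5)
    omega
  · show 11 ∣ sz H (w9 6)
    omega
  · show 11 ∣ sz H (w9 7)
    omega
  · show 11 ∣ sz H (w9 8)
    omega

theorem card_H : Nat.card H = 177408000 := Cfsg.Agent.HN.Index.card_H

/-- An element of order 11 of `H` is in no other conjugate of `H`. -/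
theorem mem_H_of_conj {x g : Cfsg.Spor.HN} (hx : orderOf x = 11) (hxH : x ∈ H) (hg : g⁻¹ * x * g ∈ H) : g ∈ H := by
  have hfinG := Cfsg.Agent.H710.Spor.HN.finite_hn
  have hfin : Finite H := inferInstance
  obtain ⟨i, hi⟩ := Cfsg.Agent.HN.Index.covers g⁻¹
  have hor := (Cfsg.Agent.HN.Count.mem_orbit_iff' (H := H) g⁻¹ (w9 i)).2 hi
  by_cases h0 : i = 0
  · subst h0
    rw [Cfsg.Agent.HN.Index.w9_zero, DoubleCoset.mem_doubleCoset] at hi
    obtain ⟨a, ha, b, hb, hab⟩ := hi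
    have h1 : g⁻¹ ∈ H := by
      rw [hab, mul_one]
      exact H.mul_mem ha hb
    exact inv_mem_iff.1 h1
  · exfalso
    -- the point is fixed by `x`
    have hd := dvd_sz i h0
    set q : Cfsg.Spor.HN ⧸ H := pnt H g⁻¹ with hq
    have hqo : Nat.card (MulAction.orbit H q) = sz H (w9 i) := by
      rw [sz, MulAction.orbit_eq_iff.2 hor]
    have hst : Nat.card (MulAction.orbit H q) * Nat.card (MulAction.stabilizer H q) = Nat.card H := by
      rw [Nat.card_congr (MulAction.orbitEquivQuotientStabilizer H q)]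
      exact (Subgroup.card_eq_card_quotient_mul_card_subgroup _).symm
    have hxs : (⟨x, hxH⟩ : H) ∈ MulAction.stabilizer H q := by
      rw [MulAction.mem_stabilizer_iff]
      change ((x * (g⁻¹)⁻¹ : Cfsg.Spor.HN) : Cfsg.Spor.HN ⧸ H) = (((g⁻¹)⁻¹ : Cfsg.Spor.HN) : Cfsg.Spor.HN ⧸ H)
      rw [QuotientGroup.eq, inv_inv]
      have h1 : (x * g)⁻¹ * g = (g⁻¹ * x * g)⁻¹ := by group
      rw [h1]
      exact H.inv_mem hg
    have h11 : 11 ∣ Nat.card (MulAction.stabilizer H q) := by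
      have h2 : orderOf (⟨⟨x, hxH⟩, hxs⟩ : MulAction.stabilizer H q) = 11 := by
        rw [Subgroup.orderOf_mk, Subgroup.orderOf_mk, hx]
      rw [← h2]
      exact orderOf_dvd_natCard _
    rw [hqo, card_H] at hst
    obtain ⟨a, ha⟩ := hd
    obtain ⟨b, hb⟩ := h11
    rw [ha, hb] at hst
    have h3 : 121 ∣ 177408000 := ⟨a * b, by rw [← hst]; ring⟩
    revert h3
    norm_num

theorem mem_H_iff {x : Cfsg.Spor.HN} : x ∈ H ↔ ∃ u, ψ u = x := by
  rw [← Cfsg.Agent.HN.NormalH.range_ψ]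
  exact Iff.rfl

/-- The centralizer of the element of order 11. -/
theorem card_cent : Nat.card (centralizer ({ψ xx} : Set Cfsg.Spor.HN)) = 2 * 11 := by
  have hfinG := Cfsg.Agent.H710.Spor.HN.finite_hn
  refine le_antisymm ?_ ?_
  · have hf : ∀ g : centralizer ({ψ xx} : Set Cfsg.Spor.HN), ∃ i : Fin 11 × Bool,
        (g : Cfsg.Spor.HN) = ψ (xx ^ (i.1 : ℕ) * (if i.2 then τ else 1)) := by
      rintro ⟨g, hg⟩
      have hg1 : g * ψ xx = ψ xx * g := mem_centralizer_singleton_iff.1 hg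
      have hxH : ψ xx ∈ H := mem_H_iff.2 ⟨_, rfl⟩
      have h2 : g⁻¹ * ψ xx * g = ψ xx := by rw [mul_assoc, ← hg1, inv_mul_cancel_left]
      have h3 := mem_H_of_conj orderOf_ψx hxH (by rw [h2]; exact hxH)
      obtain ⟨u, rfl⟩ := mem_H_iff.1 h3
      have h4 : u * xx = xx * u := by
        apply ψ_inj
        rw [map_mul, map_mul]
        exact hg1
      obtain ⟨k, hk, h8 | h8⟩ := Cfsg.Agent.H710.Spor.HNCent.mem_of_comm h4
      · exact ⟨(⟨k, hk⟩, false), (congrArg ψ h8).trans (by simp)⟩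
      · exact ⟨(⟨k, hk⟩, true), (congrArg ψ h8).trans (by simp)⟩
    choose f hf using hf
    have hinj : Function.Injective f := fun a b hab => Subtype.ext (by rw [hf a, hf b, hab])
    have h := Nat.card_le_card_of_injective f hinj
    simpa using h
  · refine Nat.le_of_dvd Nat.card_pos ?_
    have ho : orderOf (ψ xx * ψ τ) = 2 * 11 :=
      Cfsg.Agent.H710.TwoP.orderOf_xt (p := 11) (by norm_num) orderOf_ψx orderOf_ψτ comm_xτ
    have hm : ψ xx * ψ τ ∈ centralizer ({ψ xx} : Set Cfsg.Spor.HN) := by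
      rw [mem_centralizer_singleton_iff, mul_assoc, comm_xτ.eq]
    rw [← ho, ← Subgroup.orderOf_mk _ hm]
    exact orderOf_dvd_natCard _

open Cfsg.Agent.H695 Cfsg.Agent.H695.Spor.Tool in
theorem hasDZ_11 : HasDZ 11 Cfsg.Spor.HN := by
  have := Cfsg.Agent.H710.Spor.HN.finite_hn
  refine hasDZ_of_card_classes (p := 11) fac11 orderOf_ψx (c := 2) (by rw [card_cent, mul_comm]) ?_
  have h1 := card_fus_mul_card_sing (p := 11) (x := ψ xx) (by rw [← orderOf_ψx]; exact pow_orderOf_eq_one _)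
  have h2 := card_conjClasses
  generalize (fus (p := 11) (ψ xx)).card = e at h1 ⊢
  generalize (sing 11 (ψ xx)).card = t at h1 ⊢
  have h3 : e ∣ 10 := ⟨t, h1.symm⟩
  have h4 : e ≤ 10 := Nat.le_of_dvd (by norm_num) h3
  interval_cases e <;> omega

open Cfsg.Agent.H695 in
/-- No element has order 209. -/
theorem orderOf_ne (z : Cfsg.Spor.HN) : orderOf z ≠ 19 * 11 := by
  have := Cfsg.Agent.H710.Spor.HN.finite_hn
  intro hz
  have h1 : orderOf (z ^ 19) = 11 := by
    rw [orderOf_pow, hz]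
    norm_num
  obtain ⟨c, i, hc, hi⟩ := Third.exists_conj_pow fac11 orderOf_ψx h1
  have hco : Nat.Coprime i 11 := Nat.Coprime.symm ((Nat.Prime.coprime_iff_not_dvd (by norm_num)).2 hi)
  obtain ⟨j, hj⟩ : ∃ j, (ψ xx ^ i) ^ j = ψ xx := exists_pow_eq_self_of_coprime (by rwa [orderOf_ψx])
  -- `c * z * c⁻¹` centralizes `ψ xx`
  have h3 : Commute (c * z * c⁻¹) (ψ xx) := by
    have h4 : Commute (c * z * c⁻¹) (c * (z ^ 19) * c⁻¹) := by
      rw [← conj_pow]
      exact (Commute.refl _).pow_right 19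
    rw [hc] at h4
    rw [← hj]
    exact h4.pow_right j
  have h5 : c * z * c⁻¹ ∈ centralizer ({ψ xx} : Set Cfsg.Spor.HN) := mem_centralizer_singleton_iff.2 h3
  have h6 := orderOf_dvd_natCard (⟨_, h5⟩ : centralizer ({ψ xx} : Set Cfsg.Spor.HN))
  have h7 : orderOf (c * z * c⁻¹) = orderOf z := (MulAut.conj c).orderOf_eq z
  rw [Subgroup.orderOf_mk, card_cent, h7, hz] at h6
  revert h6
  norm_num

open Cfsg.Agent.H695 Cfsg.Agent.H695.Spor.Tool in
/-- **The row of `HN`.** -/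
theorem row49_hn {K : Type*} [Group K] (h : Cfsg.Spor.IsoHN K) : Row49 K := by
  obtain ⟨e⟩ := h
  refine Row49.mulEquiv ?_ e.symm
  have := Cfsg.Agent.H710.Spor.HN.finite_hn
  have := Cfsg.Agent.H710.Spor.HN.isSimple_hn
  have hc := Cfsg.Agent.H710.Spor.HN.card_hn
  exact row49_of_two' (p := 19) (q := 11)
    (nonabelian_of_primes (p := 19) (q := 11) (by norm_num) (by norm_num) (by norm_num)
      (by rw [hc]; norm_num) (by rw [hc]; norm_num)) (by norm_num) fac19 fac11
    (index_of_out (by rw [Cfsg.Agent.S2082.result])) Cfsg.Agent.H710.Spor.HN.hasDZ_19 hasDZ_11 orderOf_ne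

end Cfsg.Agent.H704.Spor49.Harada
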