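import Cfsg.Agent.H695.Spor.Tool
import Cfsg.Agent.H620.RowSporB
import Cfsg.Agent.H707.RowCo3
import Cfsg.Agent.H690.Spor.RankThree
import Cfsg.Agent.SporadicStructure.Co2RankThree

/-!
# The rows of `Co2` and `Co3` for S4849 (helper704)

* `hasDZ_of_degrees` : defect zero from the degrees of a permutation character of rank three;
* `tri_co3` : 11, 23 and the elements of order 14;
* `tri_co2` : the same.
-/

set_option autoImplicit false

namespace Cfsg.Agent.H704.Spor49

open Cfsg Cfsg.Agent.H620 Cfsg.Agent.H713 Cfsg.Agent.H620.SporCrit Cfsg.Agent.H665.NoPQ Cfsg.Agent.H419.Row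
open Cfsg.Agent.H419.LeechFix Cfsg.Agent.H419.LeechIrr
open Cfsg.Agent.H695 Cfsg.Agent.H695.Spor.Tool MulAction

/-- Defect zero from the possible degrees of the constituents of a permutation character of rank 3. -/
theorem hasDZ_of_degrees {G : Type*} [Group G] [Finite G] (H : Subgroup G) {k l : ℕ} (hi : H.index = 1 + k + l)
    {q₁ q₂ : G ⧸ H} (h1 : (orbit H q₁).ncard = k) (h2 : (orbit H q₂).ncard = l)
    (hk : 1 < k) (hl : 1 < l) (hkl : k ≠ l) {p : ℕ} (hp : p.Prime) (hG : (Nat.card G).factorization p = 1)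
    (hnum : ∀ f g D : ℕ, f + g = k + l → f * g * D = (1 + k + l) * k * l → p ∣ f ∨ p ∣ g) : HasDZ p G := by
  classical
  obtain ⟨R, h⟩ := H690.Spor.RankThree.R3.of_index H hi h1 h2 hk hl hkl
  have hfin : Finite (G ⧸ H) := inferInstance
  have := Fintype.ofFinite (G ⧸ H)
  obtain ⟨χ₁, χ₂, f, g, D, hf, hg, -, hfg, hprod, -⟩ := h.frame
  rcases hnum f g D hfg hprod with h3 | h3
  · exact dz_of_dvd (n := 1) χ₁ (by rw [Cfsg.Agent.Blocks.Basic.charDegree_of_eq hf, pow_one]; exact h3) hG hp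
  · exact dz_of_dvd (n := 1) χ₂ (by rw [Cfsg.Agent.Blocks.Basic.charDegree_of_eq hg, pow_one]; exact h3) hG hp

/-! ### Co2 -/

theorem chk_co2 : ((List.range 2300).all fun f => Nat.beq f 0 || Nat.beq (2299 - f) 0 || Nat.beq (f % 11) 0 ||
    !(Nat.beq (2885414400 % (f * (2299 - f))) 0)) = true := by decide +kernel

theorem num_co2 (f g D : ℕ) (h1 : f + g = 891 + 1408) (h2 : f * g * D = (1 + 891 + 1408) * 891 * 1408) : 11 ∣ f := by
  have h := chk_co2
  rw [List.all_eq_true] at h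
  have h3 := h f (List.mem_range.2 (by omega))
  have hg : g = 2299 - f := by omega
  subst hg
  simp only [Bool.or_eq_true, Bool.not_eq_true', Nat.beq_eq] at h3
  have h4 : f * (2299 - f) ∣ 2885414400 := ⟨D, by rw [h2]⟩
  rcases h3 with ((h3 | h3) | h3) | h3
  · exfalso
    rw [h3] at h2
    norm_num at h2
  · exfalso
    rw [h3] at h2
    norm_num at h2
  · exact Nat.dvd_of_mod_eq_zero h3
  · exfalso
    have h5 := Nat.mod_eq_zero_of_dvd h4
    rw [h5] at h3
    exact absurd h3 (by decide)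

theorem hasDZ_co2 : HasDZ 11 Spor.Co2 := by
  have hcard : Nat.card Spor.Co2 = 42305421312000 := Cfsg.Agent.BiChar.Small.card_Co2
  have hfin : Finite Spor.Co2 := Nat.finite_of_card_ne_zero (by rw [hcard]; norm_num)
  have hs : IsSimpleGroup Spor.Co2 := Cfsg.Agent.Schreier.CoTwoStab.isSimpleGroup
  obtain ⟨H, -, hi, c₁, c₂, h1, h2⟩ := SporadicStructure.Co2RankThree.rank_three (MulEquiv.refl Spor.Co2)
  exact hasDZ_of_degrees H (k := 891) (l := 1408) (by rw [hi]) h1 h2 (by norm_num) (by norm_num) (by norm_num)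
    (by norm_num) (by rw [hcard]; exact factorization_eq_one (by norm_num) (by norm_num))
    fun f g D h3 h4 => Or.inl (num_co2 f g D h3 h4)

theorem tri_co2 {K : Type*} [Group K] (h : Spor.IsoCo2 K) : Tri K := by
  obtain ⟨e⟩ := h
  have hs : IsSimpleGroup Spor.Co2 := Cfsg.Agent.Schreier.CoTwoStab.isSimpleGroup
  have hcard : Nat.card Spor.Co2 = 42305421312000 := Cfsg.Agent.BiChar.Small.card_Co2
  have hfin : Finite Spor.Co2 := Nat.finite_of_card_ne_zero (by rw [hcard]; norm_num)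
  have hfac : (Nat.card Spor.Co2).factorization 23 = 1 := by
    rw [hcard]; exact factorization_eq_one (by norm_num) (by norm_num)
  obtain ⟨μ, hμ⟩ := irr23 Cfsg.Agent.H419.Spor.Co2.inc Cfsg.Agent.H419.Spor.Co2.inc_injective
    (by rw [hcard]; norm_num) Cfsg.Agent.H419.Spor.Co2.k ⟨Cfsg.Agent.H419.Spor.Co3.y14, fun h => by
      have := Cfsg.Agent.H419.Spor.Co2.order
      rw [h, orderOf_one] at this
      norm_num at this⟩ Cfsg.Agent.H419.Spor.Co2.inc_k (w := Cfsg.Agent.H419.Spor.Co2.leechW) (fun h => by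
        have := congrArg (fun v : leechLattice => (v : GolayPt → ℤ) none) h
        exact absurd this (by decide)) Cfsg.Agent.H419.Spor.Co2.inc_fix
  have hv : Van Spor.Co2 (Cfsg.Agent.H419.Spor.Co2.k Cfsg.Agent.H419.Spor.Co3.y14) := by
    refine ⟨μ, ?_⟩
    have h1 := hμ (Cfsg.Agent.H419.Spor.Co2.k Cfsg.Agent.H419.Spor.Co3.y14)
    rw [lchi_perm Cfsg.Agent.H419.Spor.Co2.inc
      (Cfsg.Agent.H419.Spor.Co2.inc_k Cfsg.Agent.H419.Spor.Co3.y14)] at h1
    have h2 : Nat.card (MulAction.fixedBy GolayPt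
        ((Cfsg.Agent.H419.Spor.Co3.y14 : Cfsg.Agent.H419.LeechFix.St1) : M24)) = 1 :=
      Cfsg.Agent.H419.Spor.Mathieu.x14_fix
    rw [h2] at h1
    simpa using h1
  have : Fact (Nat.Prime 11) := ⟨by norm_num⟩
  have : Fact (Nat.Prime 23) := ⟨by norm_num⟩
  exact Tri.mulEquiv (tri_of_vord (a := 11) (b := 23) (c := 14) (vord_of_dz hasDZ_co2 (by rw [hcard]; norm_num))
    (vord_of_dz (Cfsg.Agent.H713.Spor.Small.hasDZ_of_lchi hfac hμ) (by rw [hcard]; norm_num))
    ⟨_, Cfsg.Agent.H419.Count.vz_of_inner hv (inner_of_out Cfsg.Agent.S2070.result), Cfsg.Agent.H419.Spor.Co2.order⟩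
    (by norm_num) (by norm_num) (by norm_num)) e.symm

/-! ### Co3 on 276 pairs -/

section Co3

open Cfsg.Agent.H707.RowCo3

/-- the relation `x = y` or `x = opp y` -/
def pairSetoid : Setoid X where
  r x y := x = y ∨ x = opp y
  iseqv :=
    { refl := fun x => Or.inl rfl
      symm := fun {x y} h => by
        rcases h with h | h
        · exact Or.inl h.symm
        · right; rw [h, opp_opp]
      trans := fun {x y z} h1 h2 => by
        rcases h1 with rfl | rfl
        · exact h2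
        · rcases h2 with rfl | rfl
          · exact Or.inr rfl
          · left; rw [opp_opp] }

/-- the 276 pairs -/
def P276 : Type := Quotient pairSetoid

instance finite_P276 : Finite P276 := Quotient.finite _

/-- the pair of `x` -/
def mkP (x : X) : P276 := Quotient.mk pairSetoid x

theorem mkP_surj (a : P276) : ∃ x, mkP x = a := Quotient.exists_rep a

theorem mk_eq {x y : X} : mkP x = mkP y ↔ x = y ∨ x = opp y :=
  Quotient.eq (r := pairSetoid)

instance mulAction_P276 : MulAction ↥Spor.Co3 P276 where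
  smul g := Quotient.map (fun x => g • x) (fun x y h => by
    rcases h with rfl | rfl
    · exact Or.inl rfl
    · exact Or.inr (smul_opp g y))
  one_smul x := by
    obtain ⟨x, rfl⟩ := mkP_surj x
    exact congrArg mkP (one_smul _ x)
  mul_smul g h x := by
    obtain ⟨x, rfl⟩ := mkP_surj x
    exact congrArg mkP (mul_smul g h x)

theorem smul_mk (g : ↥Spor.Co3) (x : X) : g • mkP x = mkP (g • x) := rfl

theorem opp_ne (x : X) : opp x ≠ x := by
  intro h
  have h1 := dot_opp x x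
  rw [h] at h1
  have h2 : sqNorm (x.1 : GolayPt → ℤ) = 32 := x.2.1
  rw [Cfsg.Agent.Leech.Basic.sqNorm_eq_dotInt] at h2
  rw [h2] at h1
  norm_num at h1

theorem card_P276 : Nat.card P276 = 276 := by
  classical
  have hX : Finite X := inferInstance
  have := Fintype.ofFinite X
  have := Fintype.ofFinite P276
  have h1 : Fintype.card X = 2 * Fintype.card P276 := by
    have h2 := Finset.card_eq_sum_card_fiberwise (f := mkP)
      (s := Finset.univ) (t := Finset.univ) (fun _ _ => Finset.mem_coe.2 (Finset.mem_univ _))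
    rw [Finset.card_univ] at h2
    rw [h2, Finset.sum_const_nat (m := 2), Finset.card_univ, mul_comm]
    intro q _
    obtain ⟨x, rfl⟩ := mkP_surj q
    have h3 : (Finset.univ.filter fun y : X => mkP y = mkP x) = {x, opp x} := by
      ext y
      rw [Finset.mem_filter, Finset.mem_insert, Finset.mem_singleton]
      exact ⟨fun h => mk_eq.1 h.2, fun h => ⟨Finset.mem_univ _, mk_eq.2 h⟩⟩
    rw [h3, Finset.card_pair (opp_ne x).symm]
  rw [← Nat.card_eq_fintype_card, card_X, ← Nat.card_eq_fintype_card] at h1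
  omega

theorem two_trans : IsMultiplyPretransitive ↥Spor.Co3 P276 2 := by
  rw [is_two_pretransitive_iff]
  intro a b c d hab hcd
  obtain ⟨x, rfl⟩ := mkP_surj a
  obtain ⟨y, rfl⟩ := mkP_surj b
  obtain ⟨u, rfl⟩ := mkP_surj c
  obtain ⟨v, rfl⟩ := mkP_surj d
  obtain ⟨g, hg⟩ := exists_smul_eq (↥Spor.Co3) x u
  have hy' : u ≠ g • y ∧ u ≠ opp (g • y) := by
    constructor
    · intro h
      apply hab
      rw [← hg] at h
      exact mk_eq.2 (Or.inl (MulAction.injective g h))
    · intro h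
      apply hab
      rw [← hg, ← smul_opp] at h
      exact mk_eq.2 (Or.inr (MulAction.injective g h))
  have hv' : u ≠ v ∧ u ≠ opp v := ⟨fun h => hcd (mk_eq.2 (Or.inl h)), fun h => hcd (mk_eq.2 (Or.inr h))⟩
  have key : ∀ w : X, u ≠ w ∧ u ≠ opp w → ∃ w' : X, mkP w' = mkP w ∧
      dotInt (u.1 : GolayPt → ℤ) (w'.1 : GolayPt → ℤ) = 16 := by
    rintro w ⟨h1, h2⟩
    rcases ip u w with h | h | h | h
    · exact absurd h.symm h1
    · exfalso
      apply h2
      rw [h, opp_opp]
    · exact ⟨w, rfl, h⟩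
    · exact ⟨opp w, mk_eq.2 (Or.inr rfl), h⟩
  obtain ⟨y', h1, h2⟩ := key _ hy'
  obtain ⟨v', h3, h4⟩ := key _ hv'
  obtain ⟨k, hk⟩ := trans16 u y' v' h2 h4
  refine ⟨(k : ↥Spor.Co3) * g, ?_, ?_⟩
  · rw [smul_mk, mul_smul, hg, mem_stabilizer_iff.1 k.2]
  · rw [mul_smul, smul_mk, ← h1, smul_mk]
    have h5 : (k : ↥Spor.Co3) • y' = v' := hk
    rw [h5, h3]

theorem hasDZ_co3 : HasDZ 11 Spor.Co3 := by
  obtain ⟨hs, hcard⟩ := Cfsg.Agent.OddHalf.D8.RowCo3.card_of (K := Spor.Co3) ⟨MulEquiv.refl _⟩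
  have hfin : Finite Spor.Co3 := Nat.finite_of_card_ne_zero (by rw [hcard]; norm_num)
  have : Fact (Nat.Prime 11) := ⟨by norm_num⟩
  exact Cfsg.Agent.H713.Spor.Small.hasDZ_of_two_trans P276 two_trans (by rw [card_P276]; norm_num)
    (by rw [hcard]; exact factorization_eq_one (by norm_num) (by norm_num)) (by rw [card_P276]; norm_num)

end Co3

theorem tri_co3 {K : Type*} [Group K] (h : Spor.IsoCo3 K) : Tri K := by
  obtain ⟨e⟩ := h
  obtain ⟨hs, hcard⟩ := Cfsg.Agent.OddHalf.D8.RowCo3.card_of (K := Spor.Co3) ⟨MulEquiv.refl _⟩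
  have hfin : Finite Spor.Co3 := Nat.finite_of_card_ne_zero (by rw [hcard]; norm_num)
  have hfac : (Nat.card Spor.Co3).factorization 23 = 1 := by
    rw [hcard]; exact factorization_eq_one (by norm_num) (by norm_num)
  obtain ⟨μ, hμ⟩ := irr23 Cfsg.Agent.H419.Spor.Co3.inc Cfsg.Agent.H419.Spor.Co3.inc_injective
    (by rw [hcard]; norm_num) Cfsg.Agent.H419.Spor.Co3.k ⟨Cfsg.Agent.H419.Spor.Co3.y14, fun h => by
      have := Cfsg.Agent.H419.Spor.Co3.order
      rw [h, orderOf_one] at this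
      norm_num at this⟩ Cfsg.Agent.H419.Spor.Co3.inc_k (w := Spor.leechV) (fun h => by
        have := congrArg (fun v : leechLattice => (v : GolayPt → ℤ) none) h
        exact absurd this (by decide)) Cfsg.Agent.H419.Spor.Co3.inc_fix
  have hv : Van Spor.Co3 (Cfsg.Agent.H419.Spor.Co3.k Cfsg.Agent.H419.Spor.Co3.y14) := by
    refine ⟨μ, ?_⟩
    have h1 := hμ (Cfsg.Agent.H419.Spor.Co3.k Cfsg.Agent.H419.Spor.Co3.y14)
    rw [lchi_perm Cfsg.Agent.H419.Spor.Co3.inc
      (Cfsg.Agent.H419.Spor.Co3.inc_k Cfsg.Agent.H419.Spor.Co3.y14)] at h1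
    have h2 : Nat.card (MulAction.fixedBy GolayPt
        ((Cfsg.Agent.H419.Spor.Co3.y14 : Cfsg.Agent.H419.LeechFix.St1) : M24)) = 1 :=
      Cfsg.Agent.H419.Spor.Mathieu.x14_fix
    rw [h2] at h1
    simpa using h1
  have : Fact (Nat.Prime 11) := ⟨by norm_num⟩
  have : Fact (Nat.Prime 23) := ⟨by norm_num⟩
  exact Tri.mulEquiv (tri_of_vord (a := 11) (b := 23) (c := 14) (vord_of_dz hasDZ_co3 (by rw [hcard]; norm_num))
    (vord_of_dz (Cfsg.Agent.H713.Spor.Small.hasDZ_of_lchi hfac hμ) (by rw [hcard]; norm_num))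
    ⟨_, Cfsg.Agent.H419.Count.vz_of_inner hv (inner_of_out Cfsg.Agent.S2071.result), Cfsg.Agent.H419.Spor.Co3.order⟩
    (by norm_num) (by norm_num) (by norm_num)) e.symm

end Cfsg.Agent.H704.Spor49
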