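import Cfsg.Agent.H704.Spor49.Two
import Cfsg.Agent.H690.Spor.ONRow

/-!
# The row of `O'N` for S4849 (helper704)
-/

set_option autoImplicit false

namespace Cfsg.Agent.H704.Spor49

open Cfsg Cfsg.Agent.H695 Cfsg.Agent.H713 Cfsg.Agent.H665.NoPQ Cfsg.Agent.H695.Spor.Tool

theorem nonabelian_of_primes {S : Type*} [Group S] [Finite S] [IsSimpleGroup S] {p q : ℕ} (hp : p.Prime)
    (hq : q.Prime) (hpq : p ≠ q) (h1 : p ∣ Nat.card S) (h2 : q ∣ Nat.card S) : ∃ a b : S, a * b ≠ b * a := by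
  by_contra hcon
  push Not at hcon
  let _ : CommGroup S := { (inferInstance : Group S) with mul_comm := hcon }
  have hpr : (Nat.card S).Prime := IsSimpleGroup.prime_card
  exact hpq (((Nat.prime_dvd_prime_iff_eq hp hpr).1 h1).trans ((Nat.prime_dvd_prime_iff_eq hq hpr).1 h2).symm)

theorem arith_on_19 : ∀ e, e ∣ 19 - 1 → ¬ e * 11 ≡ 460815505920 / 19 [MOD 19] := by
  intro e he
  have h : e ∈ Nat.divisors 18 := Nat.mem_divisors.2 ⟨he, by norm_num⟩
  have key : ∀ e ∈ Nat.divisors 18, ¬ e * 11 ≡ 460815505920 / 19 [MOD 19] := by decide +kernel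
  exact key e h

theorem arith_on_11 : ∀ e, e ∣ 11 - 1 → ¬ e * 19 ≡ 460815505920 / 11 [MOD 11] := by
  intro e he
  have h : e ∈ Nat.divisors 10 := Nat.mem_divisors.2 ⟨he, by norm_num⟩
  have key : ∀ e ∈ Nat.divisors 10, ¬ e * 19 ≡ 460815505920 / 11 [MOD 11] := by decide +kernel
  exact key e h

theorem row49_on {K : Type*} [Group K] (h : Cfsg.Spor.IsoON K) : Row49 K := by
  obtain ⟨e⟩ := h
  refine Row49.mulEquiv ?_ e.symm
  have : Fact (Nat.Prime 19) := ⟨by norm_num⟩
  have : Fact (Nat.Prime 11) := ⟨by norm_num⟩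
  have := H690.Spor.ONRow.instFiniteON
  have : IsSimpleGroup Spor.ON := Cfsg.Agent.KFacts.ON.OneClass.hs
  have hc : Nat.card Spor.ON = 460815505920 := H690.Spor.ONRow.card_ON
  refine row49_of_two (p := 19) (q := 11)
    (nonabelian_of_primes (p := 19) (q := 11) (by norm_num) (by norm_num) (by norm_num)
      (by rw [hc]; norm_num) (by rw [hc]; norm_num)) (by norm_num)
    (by rw [hc]; exact factorization_eq_one (by norm_num) (by norm_num))
    (by rw [hc]; exact factorization_eq_one (by norm_num) (by norm_num))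
    (index_of_out (by rw [Cfsg.Agent.S2078.result]))
    (H690.Spor.ONRow.hasDZ ⟨MulEquiv.refl _⟩ (Or.inr rfl)) (H690.Spor.ONRow.hasDZ ⟨MulEquiv.refl _⟩ (Or.inl rfl))
    ?_ ?_
  · rw [hc]; exact arith_on_19
  · rw [hc]; exact arith_on_11

end Cfsg.Agent.H704.Spor49
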