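import Cfsg.Agent.H419.Spor.Co1
import Cfsg.Agent.H695.Spor.Tool

/-!
# The row of `Co1` for S4849 (helper704)

The exterior square of the 24-dimensional character of `Co0` vanishes at the elements of orders 4 (type `4^6`),
21 and 23 of `M24`.
-/

set_option autoImplicit false

namespace Cfsg.Agent.H704.Spor49.CoOne

open Cfsg Cfsg.Agent.H713 Cfsg.Agent.H419.Row Cfsg.Agent.H419.Count Cfsg.Agent.H419.LeechFix
  Cfsg.Agent.H419.LeechIrr Cfsg.Agent.Characters.Core
open Cfsg.Agent.SporadicA.Co0Mono Cfsg.Agent.SporadicA.Co1Simple Cfsg.Agent.Co2Type.Mono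
open Cfsg.Agent.H419.Spor.Mathieu Cfsg.Agent.H419.Spor.Co1
open Cfsg.Agent.CoOneType.CoOneE (pr)

/-- A permutation with one fixed point whose square has one fixed point. -/
theorem psi_perm_one {σ : M24} (h1 : ∀ p, (σ : Equiv.Perm GolayPt) p = p ↔ p = none)
    (h2 : ∀ p, (σ : Equiv.Perm GolayPt) ((σ : Equiv.Perm GolayPt) p) = p ↔ p = none) :
    psi (permCo0 σ) = 0 := by
  have hc : ∀ τ : M24, (∀ p, (τ : Equiv.Perm GolayPt) p = p ↔ p = none) →
      Nat.card (MulAction.fixedBy GolayPt τ) = 1 := by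
    intro τ h
    rw [Nat.card_eq_one_iff_exists]
    exact ⟨⟨none, (h none).2 rfl⟩, fun q => Subtype.ext ((h q).1 q.2)⟩
  have e1 : chi (permCo0 σ) = 1 := by
    rw [chi, lchi_perm (MonoidHom.id Co0) (g := permCo0 σ) (σ := σ) rfl, hc σ h1]
    norm_num
  have e2 : chi (permCo0 σ * permCo0 σ) = 1 := by
    rw [← map_mul, chi, lchi_perm (MonoidHom.id Co0) (g := permCo0 (σ * σ)) (σ := σ * σ) rfl,
      hc (σ * σ) h2]
    norm_num
  rw [psi, e1, e2]
  norm_num

theorem vz_one {σ : M24} (h1 : ∀ p, (σ : Equiv.Perm GolayPt) p = p ↔ p = none)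
    (h2 : ∀ p, (σ : Equiv.Perm GolayPt) ((σ : Equiv.Perm GolayPt) p) = p ↔ p = none) :
    VZ Spor.Co1 (pr (permCo0 σ)) := by
  obtain ⟨θ, hθ⟩ := exists_irr (psi_perm_one h1 h2)
  exact vz_of_inner ⟨θ, by rw [hθ, psi_perm_one h1 h2]⟩ (inner_of_out Cfsg.Agent.S2069.result)

theorem order_pr (σ : M24) : orderOf (pr (permCo0 σ)) = orderOf σ :=
  orderOf_injective (pr.comp permCo0) pr_perm_injective σ

/-- The element of order 4. -/
noncomputable def y4 : M24 := y12 ^ 3

theorem y4_order : orderOf y4 = 4 := by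
  rw [y4, orderOf_pow, y12_order]; norm_num

theorem y4_fix : ∀ p, (y4 : Equiv.Perm GolayPt) p ≠ p := by
  show ∀ p, ((T * T * T * projInv) ^ 3) p ≠ p
  decide +kernel

theorem y4_fix2 : ∀ p, (y4 : Equiv.Perm GolayPt) ((y4 : Equiv.Perm GolayPt) p) ≠ p := by
  show ∀ p, ((T * T * T * projInv) ^ 3) (((T * T * T * projInv) ^ 3) p) ≠ p
  decide +kernel

/-- The element of order 21. -/
noncomputable def y21 : M24 := ⟨T * cubeTwist * T * cubeTwist * projInv,
    mul_mem (mul_mem (mul_mem (mul_mem T_mem C_mem) T_mem) C_mem) J_mem⟩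

theorem y21_order : orderOf y21 = 21 := by
  refine orderOf_eq (by norm_num) ?_ ?_
  · apply Subtype.ext
    show (T * cubeTwist * T * cubeTwist * projInv) ^ 21 = 1
    apply Equiv.ext
    decide +kernel
  · intro p hp h
    have h1 : (T * cubeTwist * T * cubeTwist * projInv) ^ (21 / p) = 1 := congrArg Subtype.val h
    have h2 := Equiv.ext_iff.1 h1
    have h3 : p = 3 ∨ p = 7 := by
      have : p ∈ ({3, 7} : Finset ℕ) := by
        rw [show ({3, 7} : Finset ℕ) = (21 : ℕ).primeFactors by decide +kernel]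
        exact hp
      simpa using this
    rcases h3 with rfl | rfl
    · revert h2
      decide +kernel
    · revert h2
      decide +kernel

theorem y21_fix : ∀ p, (y21 : Equiv.Perm GolayPt) p ≠ p := by
  show ∀ p, (T * cubeTwist * T * cubeTwist * projInv) p ≠ p
  decide +kernel

theorem y21_fix2 : ∀ p, (y21 : Equiv.Perm GolayPt) ((y21 : Equiv.Perm GolayPt) p) ≠ p := by
  show ∀ p, (T * cubeTwist * T * cubeTwist * projInv) ((T * cubeTwist * T * cubeTwist * projInv) p) ≠ p
  decide +kernel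

/-- The element of order 23. -/
noncomputable def y23 : M24 := ⟨T, T_mem⟩

theorem y23_order : orderOf y23 = 23 := by
  have : Fact (Nat.Prime 23) := ⟨by norm_num⟩
  refine orderOf_eq_prime ?_ ?_
  · apply Subtype.ext
    show T ^ 23 = 1
    apply Equiv.ext
    decide +kernel
  · intro h
    have h1 : T = 1 := congrArg Subtype.val h
    have h2 := Equiv.ext_iff.1 h1
    revert h2
    decide +kernel

theorem y23_fix : ∀ p, (y23 : Equiv.Perm GolayPt) p = p ↔ p = none := by
  show ∀ p, T p = p ↔ p = none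
  decide +kernel

theorem y23_fix2 : ∀ p, (y23 : Equiv.Perm GolayPt) ((y23 : Equiv.Perm GolayPt) p) = p ↔ p = none := by
  show ∀ p, T (T p) = p ↔ p = none
  decide +kernel

end Cfsg.Agent.H704.Spor49.CoOne

namespace Cfsg.Agent.H704.Spor49

open Cfsg Cfsg.Agent.H695 Cfsg.Agent.H695.Spor.Tool Cfsg.Agent.H419.Spor.Co1 CoOne
open Cfsg.Agent.SporadicA.Co0Mono
open Cfsg.Agent.CoOneType.CoOneE (pr)

/-- `Co1`: elements of orders 23, 21 and 4. -/
theorem tri_co1 {K : Type*} [Group K] (h : Cfsg.Spor.IsoCo1 K) : Tri K := by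
  obtain ⟨e⟩ := h
  refine Tri.mulEquiv ⟨pr (permCo0 y23), pr (permCo0 y21), pr (permCo0 y4), vz_one y23_fix y23_fix2,
    vz y21_fix y21_fix2, vz y4_fix y4_fix2, ?_, ?_, ?_⟩ e.symm
  · rw [order_pr, order_pr, y23_order, y21_order]; norm_num
  · rw [order_pr, order_pr, y23_order, y4_order]; norm_num
  · rw [order_pr, order_pr, y21_order, y4_order]; norm_num

end Cfsg.Agent.H704.Spor49
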