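import Cfsg.Agent.H704.Spor49.PQ
import Cfsg.Agent.H704.Spor49.ONan
import Cfsg.Agent.H436.HeFive
import Cfsg.Agent.H710.Spor.He
import Cfsg.Agent.H620.RowHe

/-!
# The row of `He` for S4849 (helper704)

`W = X Q` has order 15 and centralizer of order 15.
-/

set_option autoImplicit false
set_option maxRecDepth 100000

namespace Cfsg.Agent.H704.Spor49.Held

open Subgroup Cfsg
open Cfsg.Spor.He (Gen)
open Cfsg.Agent.SporadicB.HePerm Cfsg.Agent.FixBN.HeStab Cfsg.Agent.KFacts.He.Lv Cfsg.Agent.CpAutHe.Cnt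
  Cfsg.Agent.CpAutHe.Bound Cfsg.Agent.H436.HeFive

/-- the word of order 15 -/
def W : List Gen := X ++ Q

theorem a1 : cnt 2058 (fun y => tst W [] [1] 0 y && !(Nat.beq y 0) && !(Nat.beq y 883)) = 0 := by decide +kernel
theorem a2 : cnt 2058 (fun y => tst W [] [1] 883 y && !(Nat.beq y 0) && !(Nat.beq y 883)) = 0 := by decide +kernel
theorem b1 : colr 0 883 = 4 := by decide +kernel
theorem b2 : colr 883 0 = 3 := by decide +kernel
theorem c1 : cnt 2058 (tst W [0] [1, 2, 3] 15) = 15 := by decide +kernel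
theorem s1 : ([0, 15, 131, 231, 146, 120, 48, 22].all fun a => elemN a (nx W [0] 15)) = true := by decide +kernel
theorem d1 : cnt 2058 (tst W [0, 15, 131, 231, 146, 120, 48, 22] [] 8) = 1 := by decide +kernel
theorem s2 : ([0, 8, 229, 11, 12, 224, 60, 9, 15, 131, 231, 146, 120, 48, 22].all fun a => elemN a (nx W (nx W [0] 15) 8)) =
    true := by decide +kernel
theorem d2 : cnt 2058 (tst W [0, 8, 229, 11, 12, 224, 60, 9, 15, 131, 231, 146, 120, 48, 22] [] 32) = 1 := by
  decide +kernel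
theorem d3 : cnt 2058 (tst W [0, 8, 229, 11, 12, 224, 60, 9, 15, 131, 231, 146, 120, 48, 22] [] 1) = 1 := by
  decide +kernel

theorem of_cnt {P : ℕ → Bool} {n : ℕ} (h : cnt n P = 0) {y : ℕ} (hy : y < n) : P y = false := by
  rw [← card_filter, Finset.card_eq_zero, Finset.filter_eq_empty_iff] at h
  have := h (Finset.mem_range.2 hy)
  simpa using this

theorem mem_pair {p : Fin 2058} (h : cnt 2058 (fun y => tst W [] [1] p y && !(Nat.beq y 0) && !(Nat.beq y 883)) = 0)
    {c : Cfsg.Spor.He} (hc : c * wd W = wd W * c) : phi c p = 0 ∨ phi c p = 883 := by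
  have h1 := of_cnt h (phi c p).2
  have h2 := tst_spec hc (F := []) (fs := []) (fun f hf => absurd hf List.not_mem_nil) (fun _ h => h) [1] p
  simp only [h2, Bool.true_and, Bool.and_eq_false_iff, Bool.not_eq_false'] at h1
  rcases h1 with h1 | h1
  · left
    exact Fin.ext (Nat.eq_of_beq_eq_true h1)
  · right
    exact Fin.ext (Nat.eq_of_beq_eq_true h1)

theorem fix0 {c : Cfsg.Spor.He} (hc : c * wd W = wd W * c) : phi c 0 = 0 := by
  rcases mem_pair (p := 0) a1 hc with h1 | h1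
  · exact h1
  · exfalso
    rcases mem_pair (p := 883) a2 hc with h2 | h2
    · have h3 := colr_inv c 0 883
      rw [h1, h2] at h3
      have h4 : colr 883 0 = colr 0 883 := h3
      rw [b1, b2] at h4
      omega
    · rw [← h1] at h2
      have h3 := (phi c).injective h2
      have h4 : (883 : Fin 2058) ≠ 0 := by decide
      exact h4 (h1.symm.trans h3)

theorem card_le15 : Nat.card ↥(centralizer ({wd W} : Set Cfsg.Spor.He)) ≤ 15 := by
  have hC : ∀ c ∈ centralizer ({wd W} : Set Cfsg.Spor.He), c * wd W = wd W * c := fun c hc =>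
    mem_centralizer_singleton_iff.1 hc
  have hF : ∀ c ∈ centralizer ({wd W} : Set Cfsg.Spor.He), ∀ f ∈ [0], Fx c f := by
    intro c hc f hf
    rw [List.mem_singleton] at hf
    subst hf
    exact ⟨by norm_num, fix0 (hC c hc)⟩
  have hC1 : ∀ c ∈ st (centralizer ({wd W} : Set Cfsg.Spor.He)) 15, c * wd W = wd W * c := fun c hc =>
    hC c (mem_st.1 hc).1
  have hF1 : ∀ c ∈ st (centralizer ({wd W} : Set Cfsg.Spor.He)) 15, ∀ f ∈ nx W [0] 15, Fx c f := fun c hc =>
    fx_nx (p := 15) (hC1 c hc) (hF c (mem_st.1 hc).1) (mem_st.1 hc).2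
  have h1 : Nat.card ↥(st (centralizer ({wd W} : Set Cfsg.Spor.He)) 15) ≤ 1 := by
    rw [Subgroup.card_le_one_iff_eq_bot, eq_bot_iff_forall]
    intro c hc
    have e0 : phi c 0 = 0 := fix0 (hC1 c hc)
    have e8 : phi c 8 = 8 := fix_of_one (hC1 c hc) (hF1 c hc) 8 _ [] (sub_of_chk s1) d1
    have hF2 : ∀ f ∈ nx W (nx W [0] 15) 8, Fx c f := fx_nx (p := 8) (hC1 c hc) (hF1 c hc) e8
    have e32 : phi c 32 = 32 := fix_of_one (hC1 c hc) hF2 32 _ [] (sub_of_chk s2) d2
    have e1 : phi c 1 = 1 := fix_of_one (hC1 c hc) hF2 1 _ [] (sub_of_chk s2) d3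
    have e : ∀ i, phi (1 : Cfsg.Spor.He) i = i := fun i => by rw [map_one]; rfl
    apply eq_of_base
    · rw [e0, e]
    · rw [e1, e]
    · rw [e32, e]
    · rw [e8, e]
  exact step hC hF 15 [0] [1, 2, 3] (fun _ h => h) c1 h1

theorem wd_W : wd W = wd X * wd Q := wd_append _ _

theorem commXQ : Commute (wd X) (wd Q) := commQ.symm

theorem orderW : orderOf (wd X * wd Q) = 5 * 3 := by
  rw [commXQ.orderOf_mul_eq_mul_orderOf_of_coprime (by rw [orderX, orderQ]; norm_num), orderX, orderQ]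

theorem vz15 : Cfsg.Agent.H713.VZ Cfsg.Spor.He (wd W) := by
  have := Cfsg.Agent.H436.HeFive.finite_he
  refine Cfsg.Agent.H710.VanCount.vz_of_card _
    (lt_of_le_of_lt card_le15 (lt_of_lt_of_le (by norm_num) Cfsg.Agent.H710.Spor.He.card_classes)) ?_
  intro α
  rw [wd_W]
  refine PQ.exists_conj_pow_mul (p := 5) (q := 3) (by norm_num) (by norm_num) (by norm_num) orderX orderQ commXQ
    (fun w hw => exists_conj hw) ?_ (by rw [MulEquiv.orderOf_eq, orderW])
  have h1 : 3 ∣ Nat.card ↥(centralizer ({wd X} : Set Cfsg.Spor.He)) := by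
    have h2 : wd Q ∈ centralizer ({wd X} : Set Cfsg.Spor.He) := mem_centralizer_singleton_iff.2 commQ
    rw [← orderQ, ← Subgroup.orderOf_mk _ h2]
    exact orderOf_dvd_natCard _
  have h3 := card_X
  have h4 : Nat.card ↥(centralizer ({wd X} : Set Cfsg.Spor.He)) ≠ 0 := Nat.card_pos.ne'
  have h5 := (Nat.Prime.dvd_iff_one_le_factorization (by norm_num) h4).1 h1
  have h6 := (Nat.factorization_le_iff_dvd h4 (by norm_num)).2 h3 3
  have : Fact (Nat.Prime 3) := ⟨by norm_num⟩
  have h7 : (300 : ℕ).factorization 3 = 1 :=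
    Cfsg.Agent.H713.factorization_eq_one (by norm_num) (by norm_num)
  omega

open Cfsg.Agent.H695 Cfsg.Agent.H695.Spor.Tool in
/-- **The row of `He`.** -/
theorem tri_he {K : Type*} [Group K] (h : Cfsg.Spor.IsoHe K) : Tri K := by
  obtain ⟨e⟩ := h
  refine Tri.mulEquiv ?_ e.symm
  have := Cfsg.Agent.H436.HeFive.finite_he
  have : Fact (Nat.Prime 17) := ⟨by norm_num⟩
  refine tri_of_vord (a := 17) (b := 8) (c := 15)
    (Cfsg.Agent.H620.SporCrit.vord_of_dz Cfsg.Agent.H620.RowHe.hasDZ_17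
      (by rw [KFacts.He.Classes.card_he]; norm_num))
    ⟨_, Cfsg.Agent.H710.Spor.He.vz8, Cfsg.Agent.H710.Spor.He.o8⟩
    ⟨_, vz15, by rw [wd_W, orderW]⟩ (by norm_num) (by norm_num) (by norm_num)

end Cfsg.Agent.H704.Spor49.Held
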