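import Cfsg.Agent.H704.Spor49.PermCent
import Cfsg.Agent.H704.Spor49.ONan
import Cfsg.Agent.H379.J2Spec
import Cfsg.Agent.H620.RowSporB
import Cfsg.Agent.H55.OutGen
import Cfsg.Agent.H710.VanCount
import Cfsg.Agent.S2066

/-!
# The row of `J2` for S4849 (helper704)

In the representation of degree 100: elements of orders 15 and 8 with centralizers of order at most 15, all of
whose images under automorphisms are conjugate to powers, and 16 classes.
-/

set_option autoImplicit false
set_option maxRecDepth 100000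

namespace Cfsg.Agent.H704.Spor49.JankoTwo

open Cfsg Equiv Cfsg.Agent.SporadicA.PermTab Cfsg.Agent.SporadicA.J2Data Cfsg.Agent.SporadicA.J2Hundred
open Cfsg.Agent.J2.HundredGens Cfsg.Agent.H379.J2Spec Cfsg.Agent.H704.Spor49.PermCent

/-- the table of the element of order 15 -/
def t15 : ℕ := 0x1816411043072040220510140bc108310240781000807c07c0b02c03a13c2384d0821380a86204c03c0881704e0682c0240361680c828030148198560461542804905a0f4308400840fc1b05d0980381a8290640ac0684b0601201b83a0700ec0e04a0c00b82985f0b80d01e0130000040480b00c014020030b601c2f0020541142305404a15c0a063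

/-- the table of the element of order 8 -/
def t8 : ℕ := 0x240640d0300ae028128140220f01d85d02610c210080421001f8610901342704406612c1f0180920340603d08c114278510a40a40b8590b4074140500940701782e0820b41605e056098190310360382606206a09c0805c0740d8150540460880f01f0680e41c03708e0802f80f02c16c318240b01802a85600c14c038150060080280400200005809

def R15 : ℕ := 0x61282400f01c01c1982100a1882082b0040d01380102a1842282906405c1b84b0b807c0905608e0100480c0a01601803902c08018818070124178220461182885a0c01102683c0380b02184e05c0202e81e0bc0900301b0220341f81403a0b42c84f0a60d4128520ae0f81d800020100260550b60e8140190be0f42a00a04c0d83184201604c0d02a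

def O15 : ℕ := 0xa1682903301609c1484b01e0d00e84202e120080090360601a8430380b0188110981881d06108e0d82883205a0102c8120420580503002a0382003b09a0180d0560ba13c1e8410720ac0f02e0b00002800d0aa01c0c82606e0e02e03e0940a00f82f0480040603c09c0fc29820004124118130c017c110440060202282a0bc0942d8460c615c2a014

def R8 : ℕ := 0xa0582884402a1201400c0060b02005b0340a4230120861700302a06c15c168090c012c0401700e104020420300e42d03f08a1501800b0c61281d84d01c0701005f0b20940083c0aa0cc12002074140188110701301181003a04c1a81b0420c82f01f09e1881380f03c0bc170560920281100d0b00d01b84e0c20f40c85204c0f82e80002814c2382b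

def O8 : ℕ := 0x760680584b068074028520b01041980f09c0501783e0040203082a0360301c0260940e80985e0021541f8600a611023059080018050300720ac2102701a13c1080e05c0781483d02c0542685a0001402b05d03201c1902d04a0440f83503805c1183604015c048430901882f803044150140240300dc0805c0780482604908e144318450b60b018804

theorem tab15 : allB (fun i => Nat.beq (run w15 i) (lk t15 i)) 100 = true := by decide +kernel
theorem tab8 : allB (fun i => Nat.beq (run w8 i) (lk t8 i)) 100 = true := by decide +kernel

theorem hP15 (i : Fin 100) : ((pw w15 i : Fin 100) : ℕ) = lk t15 i := by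
  rw [pw_val]
  exact Nat.eq_of_beq_eq_true ((allB_iff _ _).1 tab15 i i.2)

theorem hP8 (i : Fin 100) : ((pw w8 i : Fin 100) : ℕ) = lk t8 i := by
  rw [pw_val]
  exact Nat.eq_of_beq_eq_true ((allB_iff _ _).1 tab8 i i.2)

/-! ### the centralizer of the element of order 15 -/

/-- the test for the images of `0` -/
def T15 (v : ℕ) : Bool :=
  band (Nat.beq (cd 100 adj t15 v 15 v) (cd 100 adj t15 0 15 0)) (Nat.beq (tri 100 adj t15 v) (tri 100 adj t15 0))

theorem cnt15 : cntB T15 100 15 = true := by decide +kernel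
theorem dist15 : chkDist 100 adj (maskL (orbL t15 15 0)) R15 O15 = true := by decide +kernel

/-- the centralizer in the automorphism group of the graph -/
def H15 : Subgroup (Perm (Fin 100)) := autG 100 adj ⊓ Subgroup.centralizer {pw w15}

theorem comm_of_mem_H15 {c : Perm (Fin 100)} (hc : c ∈ H15) : c * pw w15 = pw w15 * c :=
  Subgroup.mem_centralizer_singleton_iff.1 hc.2

theorem card_ps15 : Nat.card (ps H15 (0 : Fin 100)) ≤ 1 := by
  rw [Subgroup.card_le_one_iff_eq_bot, Subgroup.eq_bot_iff_forall]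
  intro c hc
  have h0 : Fx c 0 := ⟨by norm_num, fun i hi => by
    have : i = 0 := Fin.ext hi
    rw [this]
    exact hc.2⟩
  exact eq_one_of_dist dist15 c hc.1.1 (fx_orbL hP15 (comm_of_mem_H15 hc.1) 15 h0)

theorem card_H15 : Nat.card H15 ≤ 15 := by
  refine card_le_of (m := 15) (k := 1) (0 : Fin 100) T15 (fun c hc => ?_) cnt15 card_ps15
  have h1 := cd_inv hP15 hc.1 (comm_of_mem_H15 hc) 15 0 0
  have h2 := tri_inv hP15 hc.1 (comm_of_mem_H15 hc) 0
  unfold T15
  rw [band_eq_true, Nat.beq_eq, Nat.beq_eq]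
  exact ⟨h1, h2⟩

/-! ### the centralizer of the element of order 8 -/

/-- the test for the images of `0` -/
def T8 (v : ℕ) : Bool := Nat.beq (cd 100 adj t8 v 8 v) (cd 100 adj t8 0 8 0)

theorem cnt8 : cntB T8 100 16 = true := by decide +kernel

theorem not8 : notMemB 8 (orbL t8 8 0) = true := by decide +kernel
theorem not12 : notMemB 12 (orbL t8 8 0) = true := by decide +kernel

theorem u8 : cntB (fun v => band (Nat.beq (cd 100 adj t8 v 8 v) (cd 100 adj t8 8 8 8))
    (patt 100 adj (orbL t8 8 0) 8 v)) 100 1 = true := by decide +kernel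
theorem u12 : cntB (fun v => band (Nat.beq (cd 100 adj t8 v 8 v) (cd 100 adj t8 12 8 12))
    (patt 100 adj (orbL t8 8 0) 12 v)) 100 1 = true := by decide +kernel

theorem dist8 : chkDist 100 adj (maskL (orbL t8 8 12 ++ (orbL t8 8 8 ++ orbL t8 8 0))) R8 O8 = true := by
  decide +kernel

/-- the centralizer in the automorphism group of the graph -/
def H8 : Subgroup (Perm (Fin 100)) := autG 100 adj ⊓ Subgroup.centralizer {pw w8}

theorem comm_of_mem_H8 {c : Perm (Fin 100)} (hc : c ∈ H8) : c * pw w8 = pw w8 * c :=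
  Subgroup.mem_centralizer_singleton_iff.1 hc.2

theorem card_ps8 : Nat.card (ps H8 (0 : Fin 100)) ≤ 1 := by
  rw [Subgroup.card_le_one_iff_eq_bot, Subgroup.eq_bot_iff_forall]
  intro c hc
  have h0 : Fx c 0 := ⟨by norm_num, fun i hi => by
    have : i = 0 := Fin.ext hi
    rw [this]
    exact hc.2⟩
  have hcw := comm_of_mem_H8 hc.1
  have hF := fx_orbL hP8 hcw 8 h0
  have f8 := fx_of_cnt hP8 hc.1.1 hcw hF 8 8 (by norm_num) not8 u8
  have f12 := fx_of_cnt hP8 hc.1.1 hcw hF 12 8 (by norm_num) not12 u12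
  refine eq_one_of_dist dist8 c hc.1.1 fun f hf => ?_
  rcases List.mem_append.1 hf with h | h
  · exact fx_orbL hP8 hcw 8 f12 f h
  · rcases List.mem_append.1 h with h | h
    · exact fx_orbL hP8 hcw 8 f8 f h
    · exact hF f h

theorem card_H8 : Nat.card H8 ≤ 16 := by
  refine card_le_of (m := 16) (k := 1) (0 : Fin 100) T8 (fun c hc => ?_) cnt8 card_ps8
  have h1 := cd_inv hP8 hc.1 (comm_of_mem_H8 hc) 8 0 0
  unfold T8
  rw [Nat.beq_eq]
  exact h1

/-! ### the outer automorphism -/

/-- the conjugating words -/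
def g15 : List ℕ := [3, 4, 3, 2, 3, 1, 2, 3, 0, 1, 0, 1, 2, 3, 1, 2]
def g8 : List ℕ := [3, 4, 1, 2, 3, 2, 1, 0, 1, 2, 3, 4, 0, 1, 2, 1, 0, 1]

theorem k15 : allB (fun i => Nat.beq (lk tT (run w15 i)) (run g15 (run (rep w15 13) (run g15.reverse (lk tT i))))) 100 =
    true := by decide +kernel
theorem k8 : allB (fun i => Nat.beq (lk tT (run w8 i)) (run g8 (run (rep w8 1) (run g8.reverse (lk tT i))))) 100 =
    true := by decide +kernel

theorem pT_val (i : Fin 100) : ((pT i : Fin 100) : ℕ) = lk tT i := mkPerm_val tT tT iT i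

theorem conj_aux {w g : List ℕ} {m : ℕ} (h : allB (fun i => Nat.beq (lk tT (run w i))
    (run g (run (rep w m) (run g.reverse (lk tT i))))) 100 = true) :
    pT * pw w * pT⁻¹ = pw g * pw w ^ m * (pw g)⁻¹ := by
  rw [mul_inv_eq_iff_eq_mul]
  ext i
  rw [Perm.mul_apply, pT_val, pw_val, pw_inv, pw_rep, Perm.mul_apply, Perm.mul_apply, Perm.mul_apply, pw_val,
    pw_val, pw_val, pT_val]
  exact Nat.eq_of_beq_eq_true ((allB_iff _ _).1 h i i.2)

/-- The automorphism group of the graph and its even part. -/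
theorem G_eq {g : Perm (Fin 100)} (hg : g ∈ autG 100 adj) (hs : Perm.sign g = 1) : g ∈ G := by
  set E : Subgroup (Perm (Fin 100)) := autG 100 adj ⊓ (Perm.sign : Perm (Fin 100) →* ℤˣ).ker with hE
  have h1 := two_mul_card_le (G := E) (A := autG 100 adj) inf_le_left (fun x hx => hx.2) pT_mem sign_T
  have h2 := card_aut_le
  have h3 : G ≤ E := le_inf aut_le fun x hx => sign_G x hx
  have h4 : G = E := Subgroup.eq_of_le_of_card_ge h3 (by rw [card_G]; omega)
  rw [h4]
  exact ⟨hg, hs⟩

theorem conj_mem {c g : Perm (Fin 100)} (hc : c ∈ autG 100 adj) (hg : g ∈ G) : c * g * c⁻¹ ∈ G := by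
  refine G_eq (mul_mem (mul_mem hc (aut_le hg)) (inv_mem hc)) ?_
  rw [Perm.sign_mul, Perm.sign_mul, Perm.sign_inv, sign_G g hg, mul_one, Int.units_mul_self]

/-- the outer automorphism -/
noncomputable def τ : MulAut G where
  toFun g := ⟨pT * g * pT⁻¹, conj_mem pT_mem g.2⟩
  invFun g := ⟨pT⁻¹ * g * pT, by simpa using conj_mem (inv_mem pT_mem) g.2⟩
  left_inv g := Subtype.ext (by simp [mul_assoc])
  right_inv g := Subtype.ext (by simp [mul_assoc])
  map_mul' a b := Subtype.ext (by simp [mul_assoc])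

theorem τ_val (g : G) : ((τ g : G) : Perm (Fin 100)) = pT * g * pT⁻¹ := rfl

/-- No odd automorphism of the graph commutes with the element of order 15. -/
theorem sign_of_mem_H15 {c : Perm (Fin 100)} (hc : c ∈ H15) : Perm.sign c = 1 := by
  have h1 : Nat.card H15 = 15 := by
    refine le_antisymm card_H15 (Nat.le_of_dvd Nat.card_pos ?_)
    have h2 : pw w15 ∈ H15 := ⟨aut_le (pw_mem _), Subgroup.mem_centralizer_singleton_iff.2 rfl⟩
    have h3 := orderOf_dvd_natCard (⟨_, h2⟩ : H15)
    rwa [Subgroup.orderOf_mk, o15] at h3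
  have h2 : c ^ 15 = 1 := by
    have h3 := pow_card_eq_one' (x := (⟨c, hc⟩ : H15))
    rw [h1] at h3
    exact congrArg Subtype.val h3
  exact sign_eq_one_of_odd_pow (k := 15) (by decide) h2

theorem τ_not_inner : τ ∉ (MulAut.conj : G →* MulAut G).range := by
  rintro ⟨c, hc⟩
  have h1 : (c : Perm (Fin 100))⁻¹ * pT ∈ H15 := by
    refine ⟨Subgroup.mul_mem _ (Subgroup.inv_mem _ (aut_le c.2)) pT_mem, Subgroup.mem_centralizer_singleton_iff.2 ?_⟩
    have h2 : MulAut.conj c (gw w15) = τ (gw w15) := by rw [hc]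
    have h3 := congrArg Subtype.val h2
    have h4 : (c : Perm (Fin 100)) * pw w15 * (c : Perm (Fin 100))⁻¹ = pT * pw w15 * pT⁻¹ := h3
    have h5 : pT * pw w15 = (c : Perm (Fin 100)) * pw w15 * (c : Perm (Fin 100))⁻¹ * pT := by
      rw [h4, inv_mul_cancel_right]
    rw [mul_assoc, h5]
    group
  have h2 := sign_of_mem_H15 h1
  rw [Perm.sign_mul, Perm.sign_inv, sign_G _ c.2, sign_T] at h2
  exact absurd h2 (by decide)

theorem finite_G : Finite G := Nat.finite_of_card_ne_zero (by rw [card_G]; norm_num)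

theorem index_two : ((MulAut.conj : G →* MulAut G).range).index = 2 := by
  obtain ⟨e⟩ := iso
  have h1 := Cfsg.Agent.H55.OutGen.card_out_congr e
  rw [Cfsg.Agent.S2066.result] at h1
  exact h1.symm

/-- Images under automorphisms. -/
theorem isConj_aut {w g : List ℕ} {m : ℕ} (h : pT * pw w * pT⁻¹ = pw g * pw w ^ m * (pw g)⁻¹) (α : MulAut G) :
    ∃ k : ℕ, IsConj ((gw w) ^ k) (α (gw w)) := by
  by_cases hα : α ∈ (MulAut.conj : G →* MulAut G).range
  · obtain ⟨c, rfl⟩ := hα
    exact ⟨1, by rw [pow_one]; exact isConj_iff.2 ⟨c, rfl⟩⟩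
  · have h1 : α * τ⁻¹ ∈ (MulAut.conj : G →* MulAut G).range :=
      (Subgroup.mul_mem_iff_of_index_two index_two).2
        ⟨fun h => absurd h hα, fun h => absurd (inv_mem_iff.1 h) τ_not_inner⟩
    obtain ⟨c, hc⟩ := h1
    have h2 : α = MulAut.conj c * τ := by rw [hc, inv_mul_cancel_right]
    have h3 : τ (gw w) = gw g * gw w ^ m * (gw g)⁻¹ := Subtype.ext h
    refine ⟨m, isConj_iff.2 ⟨c * gw g, ?_⟩⟩
    rw [h2, MulAut.mul_apply, h3, MulAut.conj_apply]
    group

/-! ### centralizers in `G` -/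

theorem map_le {w : List ℕ} : (Subgroup.centralizer ({gw w} : Set G)).map G.subtype ≤
    autG 100 adj ⊓ Subgroup.centralizer {pw w} := by
  rintro _ ⟨c, hc, rfl⟩
  exact ⟨aut_le c.2, Subgroup.mem_centralizer_singleton_iff.2
    (congrArg Subtype.val (Subgroup.mem_centralizer_singleton_iff.1 hc))⟩

theorem card_map (w : List ℕ) : Nat.card (Subgroup.centralizer ({gw w} : Set G)) =
    Nat.card ((Subgroup.centralizer ({gw w} : Set G)).map G.subtype) :=
  (Nat.card_congr (Subgroup.equivMapOfInjective _ G.subtype Subtype.val_injective).toEquiv)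

theorem card_cent15 : Nat.card (Subgroup.centralizer ({gw w15} : Set G)) ≤ 15 := by
  rw [card_map]
  exact le_trans (Subgroup.card_le_of_le map_le) card_H15

theorem card_cent8 : Nat.card (Subgroup.centralizer ({gw w8} : Set G)) ≤ 8 := by
  rw [card_map]
  have h := conj_aux (m := 1) k8
  rw [pow_one] at h
  have h1 : (pw g8)⁻¹ * pT ∈ H8 := by
    refine ⟨Subgroup.mul_mem _ (Subgroup.inv_mem _ (aut_le (pw_mem _))) pT_mem,
      Subgroup.mem_centralizer_singleton_iff.2 ?_⟩
    have h5 : pT * pw w8 = pw g8 * pw w8 * (pw g8)⁻¹ * pT := by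
      rw [← h, inv_mul_cancel_right]
    rw [mul_assoc, h5]
    group
  have h2 : Perm.sign ((pw g8)⁻¹ * pT) = -1 := by
    rw [Perm.sign_mul, Perm.sign_inv, sign_G _ (pw_mem _), sign_T, one_mul]
  have h3 := two_mul_card_le (G := (Subgroup.centralizer ({gw w8} : Set G)).map G.subtype) (A := H8) map_le
    (by rintro _ ⟨c, -, rfl⟩; exact sign_G _ c.2) h1 h2
  have h4 := card_H8
  omega

/-! ### the number of classes -/

theorem ac_val {L : List ℕ} {m : ℕ} (h : cntB (fun i => Nat.beq (bitM 100 adj i (run L i)) 1) 100 m = true) :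
    ac 100 adj (pw L) = m := ac_of_cnt (fun i => pw_val L i) h

theorem not_conj {L M : List ℕ} {l m : ℕ} (hL : cntB (fun i => Nat.beq (bitM 100 adj i (run L i)) 1) 100 l = true)
    (hM : cntB (fun i => Nat.beq (bitM 100 adj i (run M i)) 1) 100 m = true) (hlm : l ≠ m) :
    ¬ IsConj (gw L) (gw M) := by
  intro h
  obtain ⟨c, hc⟩ := isConj_iff.1 h
  have h1 : (c : Perm (Fin 100)) * pw L * (c : Perm (Fin 100))⁻¹ = pw M := congrArg Subtype.val hc
  have h2 := ac_conj (aut_le c.2) (pw L)
  rw [h1, ac_val hL, ac_val hM] at h2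
  exact hlm h2.symm

theorem o_gw {L : List ℕ} {n : ℕ} (h : orderOf (pw L) = n) : orderOf (gw L) = n := by
  rw [← h]
  exact Subgroup.orderOf_mk _ _

theorem ord_prime {L : List ℕ} {p : ℕ} (hp : p.Prime) (h : chk (rep L p) [] = true)
    (h0 : Nat.beq (run L 0) 0 = false) : orderOf (pw L) = p := by
  have : Fact p.Prime := ⟨hp⟩
  exact orderOf_eq_prime (pw_pow_one h) (pw_ne_one (L := L) 0 h0)

theorem ord_two {L : List ℕ} {n : ℕ} {p q : ℕ} (hp : p.Prime) (hq : q.Prime) (hn : n = p * q)
    (h : chk (rep L n) [] = true) (h0 : Nat.beq (run (rep L q) 0) 0 = false)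
    (h1 : Nat.beq (run (rep L p) 0) 0 = false) : orderOf (pw L) = n := by
  have hpos : 0 < n := by rw [hn]; exact Nat.mul_pos hp.pos hq.pos
  apply orderOf_eq_of_pow_and_pow_div_prime hpos (pw_pow_one h)
  intro r hr hd
  rw [hn, hr.dvd_mul, Nat.prime_dvd_prime_iff_eq hr hp, Nat.prime_dvd_prime_iff_eq hr hq] at hd
  rcases hd with rfl | rfl
  · rw [hn, Nat.mul_div_cancel_left _ hp.pos]
    exact pw_pow_ne _ h0
  · rw [hn, Nat.mul_div_cancel _ hq.pos]
    exact pw_pow_ne _ h1

theorem q2a : orderOf (pw [3]) = 2 := ord_prime (by norm_num) (by decide +kernel) (by decide +kernel)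
theorem q2b : orderOf (pw [0]) = 2 := ord_prime (by norm_num) (by decide +kernel) (by decide +kernel)
theorem q3a : orderOf (pw [1, 2]) = 3 := ord_prime (by norm_num) (by decide +kernel) (by decide +kernel)
theorem q3b : orderOf (pw [3, 4]) = 3 := ord_prime (by norm_num) (by decide +kernel) (by decide +kernel)
theorem q4 : orderOf (pw [2, 3, 2, 3]) = 4 :=
  ord_two (p := 2) (q := 2) (by norm_num) (by norm_num) (by norm_num) (by decide +kernel) (by decide +kernel)
    (by decide +kernel)
theorem q5a : orderOf (pw [0, 1, 2, 3, 4, 0, 1, 2, 3, 4]) = 5 :=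
  ord_prime (by norm_num) (by decide +kernel) (by decide +kernel)
theorem q5b : orderOf (pw [0, 1, 3, 0, 1, 3]) = 5 :=
  ord_prime (by norm_num) (by decide +kernel) (by decide +kernel)
theorem q6a : orderOf (pw [1, 2, 4]) = 6 :=
  ord_two (p := 2) (q := 3) (by norm_num) (by norm_num) (by norm_num) (by decide +kernel) (by decide +kernel)
    (by decide +kernel)
theorem q6b : orderOf (pw [0, 3, 4]) = 6 :=
  ord_two (p := 2) (q := 3) (by norm_num) (by norm_num) (by norm_num) (by decide +kernel) (by decide +kernel)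
    (by decide +kernel)
theorem q10a : orderOf (pw [0, 1, 2, 3, 4]) = 10 :=
  ord_two (p := 2) (q := 5) (by norm_num) (by norm_num) (by norm_num) (by decide +kernel) (by decide +kernel)
    (by decide +kernel)

theorem card_classes : 16 ≤ Nat.card (ConjClasses G) := by
  have := finite_G
  refine Cfsg.Agent.H710.VanCount.le_card_conjClasses_two (G := G) {1, 2, 3, 4, 5, 6, 7, 8, 10, 12, 15}
    {2, 3, 5, 6, 10} ?_ ?_
  · intro n hn
    simp only [Finset.mem_insert, Finset.mem_singleton] at hn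
    rcases hn with rfl | rfl | rfl | rfl | rfl | rfl | rfl | rfl | rfl | rfl | rfl
    · exact ⟨1, orderOf_one⟩
    · exact ⟨_, o_gw q2a⟩
    · exact ⟨_, o_gw q3a⟩
    · exact ⟨_, o_gw q4⟩
    · exact ⟨_, o_gw q5a⟩
    · exact ⟨_, o_gw q6a⟩
    · exact ⟨_, o_gw o7⟩
    · exact ⟨_, o_gw o8⟩
    · exact ⟨_, o_gw o10⟩
    · exact ⟨_, o_gw o12⟩
    · exact ⟨_, o_gw o15⟩
  · intro n hn
    simp only [Finset.mem_insert, Finset.mem_singleton] at hn
    rcases hn with rfl | rfl | rfl | rfl | rfl
    · exact ⟨_, _, o_gw q2a, o_gw q2b, not_conj (l := 40) (m := 0) (by decide +kernel) (by decide +kernel)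
        (by norm_num)⟩
    · exact ⟨_, _, o_gw q3a, o_gw q3b, not_conj (l := 24) (m := 90) (by decide +kernel) (by decide +kernel)
        (by norm_num)⟩
    · exact ⟨_, _, o_gw q5a, o_gw q5b, not_conj (l := 50) (m := 0) (by decide +kernel) (by decide +kernel)
        (by norm_num)⟩
    · exact ⟨_, _, o_gw q6a, o_gw q6b, not_conj (l := 40) (m := 42) (by decide +kernel) (by decide +kernel)
        (by norm_num)⟩
    · exact ⟨_, _, o_gw q10a, o_gw o10, not_conj (l := 30) (m := 40) (by decide +kernel) (by decide +kernel)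
        (by norm_num)⟩

/-! ### the row -/

theorem vz15 : Cfsg.Agent.H713.VZ G (gw w15) := by
  have := finite_G
  exact Cfsg.Agent.H710.VanCount.vz_of_card _ (lt_of_le_of_lt card_cent15 (lt_of_lt_of_le (by norm_num) card_classes))
    (isConj_aut (conj_aux k15))

theorem vz8 : Cfsg.Agent.H713.VZ G (gw w8) := by
  have := finite_G
  exact Cfsg.Agent.H710.VanCount.vz_of_card _ (lt_of_le_of_lt card_cent8 (lt_of_lt_of_le (by norm_num) card_classes))
    (isConj_aut (conj_aux k8))

open Cfsg.Agent.H713 Cfsg.Agent.H665.NoPQ in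
theorem hasDZ_7 {K : Type*} [Group K] [Finite K] (h : Spor.IsoJ2 K) : HasDZ 7 K := by
  have : Fact (Nat.Prime 7) := ⟨by norm_num⟩
  obtain ⟨t, u, Q, v, ρ, D⟩ := Cfsg.Agent.KFacts.J2.Facts.exists_dat_of h
  have hinv : ∀ x : K, orderOf x = 2 → ¬ 7 ∣ Nat.card (Subgroup.centralizer ({x} : Set K)) := by
    intro x hx
    rcases D.F.cover x hx with h1 | h1
    · rw [Cfsg.Agent.Blocks.SylowIn.card_centralizer_of_isConj h1, D.cardC]
      norm_num
    · rw [Cfsg.Agent.Blocks.SylowIn.card_centralizer_of_isConj h1, D.card_cent_u]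
      norm_num
  exact hasDZ_of_two_classes hinv D.F.hz D.F.hu D.F.nconj

open Cfsg.Agent.H695 Cfsg.Agent.H695.Spor.Tool Cfsg.Agent.H620.SporCrit in
/-- **The row of `J2`.** -/
theorem tri_j2 {K : Type*} [Group K] (h : Cfsg.Spor.IsoJ2 K) : Tri K := by
  obtain ⟨e⟩ := h
  obtain ⟨f⟩ := iso
  have : Fact (Nat.Prime 7) := ⟨by norm_num⟩
  have hfin : Finite K := by
    have := finite_J2
    exact Finite.of_equiv _ e.symm.toEquiv
  have hc : Nat.card K = 604800 := by rw [Nat.card_congr (e.trans f).toEquiv, card_G]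
  have h7 := hasDZ_7 (K := K) ⟨e⟩
  exact tri_of_vord (a := 7) (b := 8) (c := 15) (vord_of_dz h7 (by rw [hc]; norm_num))
    (VOrd.mulEquiv ⟨_, vz8, o_gw o8⟩ (e.trans f).symm) (VOrd.mulEquiv ⟨_, vz15, o_gw o15⟩ (e.trans f).symm)
    (by norm_num) (by norm_num) (by norm_num)

end Cfsg.Agent.H704.Spor49.JankoTwo
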