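import Cfsg.Agent.H704.Spor49.ZStar
import Cfsg.Agent.H723.Spor.ThMix
import Cfsg.Agent.H620.RowSporB
import Cfsg.Agent.H695.Spor.Tool

/-!
# The row of `Th` for S4849 (helper704)

There is a character of 13-defect zero: otherwise, by arithmetic, an element `x` of order 13 is centralized by an
element `y` of order 5 commuting with an involution `t`; but `t` is isolated in `C(y)`.
-/

set_option autoImplicit false
set_option maxRecDepth 100000

namespace Cfsg.Agent.H704.Spor49.Thompson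

open Subgroup Cfsg Cfsg.Agent.H713 Cfsg.Agent.H665.NoPQ
open Cfsg.Agent.Th.Base Cfsg.Agent.Th.Word Cfsg.Agent.Th.RelWords Cfsg.Agent.Th.PermTab
  Cfsg.Agent.Th.KOracle Cfsg.Agent.Th.KPerm Cfsg.Agent.Th.NineAct Cfsg.Agent.Th.CStruct
  Cfsg.Agent.Th.COracleDef Cfsg.Agent.Th.COracleSound
open Cfsg.Agent.KFacts.Th.Mask Cfsg.Agent.KFacts.Th.Struct
open Cfsg.Agent.CpAutTh.Data Cfsg.Agent.CpAutTh.Alt Cfsg.Agent.CpAutTh.Local Cfsg.Agent.CpAutTh.Mid
open Cfsg.Agent.H723.Spor.Th Cfsg.Agent.H723.Spor.ThMix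
open scoped commutatorElement

universe u

section

variable {G : Type u} [Group G] {γ : ℕ → G} (h : Ctx γ)
include h

/-- 13 does not divide the order of the centralizer of `X5`. -/
theorem not_dvd_rep (hG : ¬ 13 * 13 ∣ Nat.card G) (hc : ¬ 13 ∣ Nat.card (centralizer ({γ 1} : Set G))) :
    ¬ 13 ∣ Nat.card (centralizer ({ev γ X5} : Set G)) := by
  have hfin := h.fin
  obtain ⟨f, F⟩ := Cfsg.Agent.CpAutTh.Local.exists_epi h
  have hYX : ev γ Y5 * ev γ X5 = ev γ X5 * ev γ Y5 := by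
    have h1 := ev_one h y5.1
    rw [ev_append, ev_append, ev_append, ev_iw h.inv, ev_iw h.inv] at h1
    rw [← mul_inv_eq_one, ← h1]
    group
  have hYY : ev γ Y5 * ev γ Y5 = γ 1 := by
    have h1 := ev_one h y5.2
    rw [ev_append, ev_append, ev_singleton, ← mul_assoc] at h1
    rw [mul_eq_one_iff_eq_inv.1 h1]
    exact inv_eq_of_mul_eq_one_right h.aa
  have hZX : ev γ Z5 * ev γ X5 = ev γ X5 * ev γ Z5 := by
    have h1 := ev_one h z5x
    rw [ev_append, ev_append, ev_append, ev_iw h.inv, ev_iw h.inv] at h1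
    rw [← mul_inv_eq_one, ← h1]
    group
  have hZY : ev γ Z5 * ev γ Y5 * (ev γ Z5)⁻¹ * (ev γ Y5)⁻¹ = γ 1 := by
    have h1 := ev_one h z5y
    rw [ev_append, ev_append, ev_append, ev_append, ev_iw h.inv, ev_iw h.inv, ev_singleton] at h1
    have h2 : (γ 1)⁻¹ = γ 1 := inv_eq_of_mul_eq_one_left h.aa
    rw [← h2, eq_inv_iff_mul_eq_one, ← h1]
    group
  have haX : γ 1 * ev γ X5 = ev γ X5 * γ 1 := by
    rw [← hYY, mul_assoc, hYX, ← mul_assoc, hYX, mul_assoc]
  set C := centralizer ({ev γ X5} : Set G) with hC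
  have ma : γ 1 ∈ C := mem_centralizer_singleton_iff.2 haX
  have mY : ev γ Y5 ∈ C := mem_centralizer_singleton_iff.2 hYX
  have mZ : ev γ Z5 ∈ C := mem_centralizer_singleton_iff.2 hZX
  have ht : orderOf (⟨γ 1, ma⟩ : C) = 2 := by
    rw [Subgroup.orderOf_mk]
    exact orderOf_eq_prime (by rw [pow_two]; exact h.aa) h.a1
  refine ZStar.not_dvd_of_isolated ht ?_ ?_ (by norm_num) ?_ ?_
  · intro s hs hst
    apply Subtype.ext
    refine inv_five h F (s := (s : G)) (by rw [Subgroup.orderOf_coe]; exact hs) (congrArg Subtype.val hst) ?_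
    exact mem_centralizer_singleton_iff.1 s.2
  · have h1 : (⟨γ 1, ma⟩ : C) = ⁅(⟨ev γ Z5, mZ⟩ : C), (⟨ev γ Y5, mY⟩ : C)⁆ := by
      apply Subtype.ext
      rw [commutatorElement_def]
      exact hZY.symm
    rw [h1]
    exact Subgroup.commutator_mem_commutator (Subgroup.mem_top _) (Subgroup.mem_top _)
  · intro hd
    apply hc
    refine hd.trans ?_
    let g : centralizer ({(⟨γ 1, ma⟩ : C)} : Set C) →* centralizer ({γ 1} : Set G) :=
      { toFun := fun x => ⟨((x : C) : G), mem_centralizer_singleton_iff.2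
          (congrArg Subtype.val (mem_centralizer_singleton_iff.1 x.2))⟩
        map_one' := rfl
        map_mul' := fun _ _ => rfl }
    refine Subgroup.card_dvd_of_injective g fun x y hxy => ?_
    have h5 : ((x : C) : G) = ((y : C) : G) := congrArg (fun z : centralizer ({γ 1} : Set G) => (z : G)) hxy
    exact Subtype.ext (Subtype.ext h5)
  · intro hd
    exact hG (hd.trans (Subgroup.card_subgroup_dvd_card C))

variable (hone : ∀ u : G, orderOf u = 2 → ∃ g : G, g * u * g⁻¹ = γ 1)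
include hone

theorem not_dvd {y t : G} (hy : orderOf y = 5) (ht : orderOf t = 2) (hc : t * y = y * t)
    (hG : ¬ 13 * 13 ∣ Nat.card G) (hG' : ¬ 13 ∣ Nat.card (centralizer ({γ 1} : Set G))) :
    ¬ 13 ∣ Nat.card (centralizer ({y} : Set G)) := by
  have hfin := h.fin
  obtain ⟨f, F⟩ := Cfsg.Agent.CpAutTh.Local.exists_epi h
  obtain ⟨g, h1, h2⟩ := exists_pair h hone hy ht hc (P := fun z => z = ev γ X5)
    (fun y hy => by
      obtain ⟨c, hc⟩ := exists_rep_five h F hy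
      exact ⟨c, congrArg Subtype.val hc⟩)
  have h3 : IsConj y (ev γ X5) := isConj_iff.2 ⟨g, h2⟩
  rw [← Cfsg.Agent.Blocks.SylowIn.card_centralizer_of_isConj h3]
  exact not_dvd_rep h hG hG'

end

theorem arith (e a b : ℕ) (he : e ∣ 13 - 1) (he2 : Even e) (hb : b ∣ 92897280) (hb2 : Odd b)
    (h1 : (e * (a * b)) % 13 = 90745943887872000 / 13 % 13)
    (h2 : (a * 92897280) % 13 = 90745943887872000 / 13 % 13) : 5 ∣ b := by
  norm_num at h1 h2 he
  have hb' : b ∣ 2835 := by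
    have h3 : Nat.Coprime b (2 ^ 15) := Nat.Coprime.pow_right 15 (Nat.coprime_two_right.2 hb2)
    exact h3.dvd_of_dvd_mul_left (by norm_num; exact hb)
  obtain ⟨b1, b2, hb1, hb3, rfl⟩ : ∃ b1 b2, b1 ∣ 81 ∧ b2 ∣ 35 ∧ b1 * b2 = b := by
    obtain ⟨b1, b2, h3, h4, h5⟩ := (Nat.dvd_mul (m := 81) (n := 35)).1 (by norm_num; exact hb')
    exact ⟨b1, b2, h3, h4, h5⟩
  have hb1m : b1 ∈ [1, 3, 9, 27, 81] := mem_div (by norm_num) hb1 _ (by decide)
  have hb2m : b2 ∈ [1, 5, 7, 35] := mem_div (by norm_num) hb3 _ (by decide)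
  have hem : e ∈ [1, 2, 3, 4, 6, 12] := mem_div (by norm_num) he _ (by decide)
  have ha' : a % 13 = 11 := by
    rw [Nat.mul_mod] at h2
    norm_num at h2
    omega
  have key : ∀ e ∈ [1, 2, 3, 4, 6, 12], ∀ b1 ∈ [1, 3, 9, 27, 81], ∀ b2 ∈ [1, 5, 7, 35],
      e % 2 = 0 → (e * (11 * (b1 * b2))) % 13 = 10 → 5 ∣ b1 * b2 := by decide
  refine key e hem b1 hb1m b2 hb2m (Nat.even_iff.1 he2) ?_
  rw [← h1, Nat.mul_mod, Nat.mul_mod 11, Nat.mul_mod e, Nat.mul_mod a, ha']

theorem hasDZ_13 : HasDZ 13 Spor.Th := by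
  have : Fact (Nat.Prime 13) := ⟨by norm_num⟩
  have : Fact (Nat.Prime 5) := ⟨by norm_num⟩
  have hfin : Finite Spor.Th := Nat.finite_of_card_ne_zero (by rw [card_th]; norm_num)
  refine hasDZ_of_card (by norm_num) (by rw [card_th]; exact factorization_eq_one (by norm_num) (by norm_num))
    (by rw [card_th]; norm_num) (m := 92897280)
    (fun u hu => card_cent Cfsg.Agent.KFacts.Th.Main.ctx hone hu) (by norm_num) ?_
  intro e a b x t hx ht hb he he2 hbm hbo hao hd h1 h2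
  rw [card_th] at h1 h2
  have hb5 := arith e a b he he2 hbm hbo h1 h2
  rw [← hb] at hb5
  obtain ⟨⟨y, hy⟩, hy5⟩ := exists_prime_orderOf_dvd_card'
    (G := ↥(centralizer ({x} : Set Spor.Th) ⊓ centralizer ({t} : Set Spor.Th))) 5 hb5
  rw [Subgroup.orderOf_mk] at hy5
  have hyx := mem_centralizer_singleton_iff.1 hy.1
  have hyt := mem_centralizer_singleton_iff.1 hy.2
  refine not_dvd Cfsg.Agent.KFacts.Th.Main.ctx hone hy5 ht hyt.symm ?_ ?_ ?_
  · rw [card_th]; norm_num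
  · have h3 := Cfsg.Agent.MonsterX.ThOneClass.orderOf_a
    rw [card_cent Cfsg.Agent.KFacts.Th.Main.ctx hone h3]
    norm_num
  · have hxy : x ∈ centralizer ({y} : Set Spor.Th) := mem_centralizer_singleton_iff.2 hyx.symm
    rw [← hx, ← Subgroup.orderOf_mk x hxy]
    exact orderOf_dvd_natCard _

end Cfsg.Agent.H704.Spor49.Thompson

namespace Cfsg.Agent.H704.Spor49

open Subgroup Cfsg Cfsg.Agent.H695 Cfsg.Agent.H695.Spor.Tool Cfsg.Agent.H713 Cfsg.Agent.H665.NoPQ
  Cfsg.Agent.H620.SporCrit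
open Cfsg.Agent.H723.Spor.Th

/-- `Th`: orders 31, 13 and an even order. -/
theorem tri_th {K : Type*} [Group K] (h : Cfsg.Spor.IsoTh K) : Tri K := by
  obtain ⟨e⟩ := h
  refine Tri.mulEquiv ?_ e.symm
  have : Fact (Nat.Prime 13) := ⟨by norm_num⟩
  have : Fact (Nat.Prime 31) := ⟨by norm_num⟩
  have hfin : Finite Spor.Th := Nat.finite_of_card_ne_zero (by rw [card_th]; norm_num)
  obtain ⟨x, hx, h2, -⟩ := Cfsg.Agent.H723.Spor.ThMix.evMix'
  have hm : ∀ u : Spor.Th, orderOf u = 2 → Nat.card (centralizer ({u} : Set Spor.Th)) = 92897280 :=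
    fun u hu => Cfsg.Agent.CpAutTh.Mid.card_cent Cfsg.Agent.KFacts.Th.Main.ctx hone hu
  have h13 := H620.RowSporB.not_dvd_of_invol (p := 13) (fun u hu => by rw [hm u hu]; norm_num) x h2
  have h31 := H620.RowSporB.not_dvd_of_invol (p := 31) (fun u hu => by rw [hm u hu]; norm_num) x h2
  exact tri_of_vord (vord_of_dz hasDZ_31 (by rw [card_th]; norm_num))
    (vord_of_dz Thompson.hasDZ_13 (by rw [card_th]; norm_num)) ⟨x, hx, rfl⟩ (by norm_num)
    ((Nat.Prime.coprime_iff_not_dvd (by norm_num)).2 h31) ((Nat.Prime.coprime_iff_not_dvd (by norm_num)).2 h13)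

end Cfsg.Agent.H704.Spor49
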