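import Cfsg.Agent.H704.Spor49.ONan
import Cfsg.Agent.H603.FD.TitsRow
import Cfsg.Agent.H690.Spor.Tits

/-!
# The row of the Tits group for S4849 (helper704)
-/

set_option autoImplicit false

namespace Cfsg.Agent.H704.Spor49.TitsRow

open Cfsg Cfsg.Agent.H695 Cfsg.Agent.H713 Cfsg.Agent.H665.NoPQ Cfsg.Agent.H695.Spor.Tool

theorem card_tits : Nat.card Cfsg.Lie.TitsGroup = 2 ^ 11 * (3 ^ 3 * 5 ^ 2 * 13) := by
  obtain ⟨-, -, -, hcard⟩ := Cfsg.Agent.S1074.result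
  have h3 : Nat.card (commutator ↥(Cfsg.Lie.twistedF4 (ZMod 2) 1)) = 2 ^ 11 * 3 ^ 3 * 5 ^ 2 * 13 := hcard
  rw [h3]
  norm_num

theorem hasDZ_two : HasDZ 2 Cfsg.Lie.TitsGroup := by
  obtain ⟨χ, hχ⟩ := Cfsg.Agent.H603.FD.TitsRow.mem_2048
  refine ⟨χ, ?_⟩
  have h1 : (2 ^ 11 * (3 ^ 3 * 5 ^ 2 * 13)).factorization 2 = 11 := by
    rw [Nat.factorization_mul (by norm_num) (by norm_num), Finsupp.add_apply,
      Nat.prime_two.factorization_pow, Finsupp.single_eq_same,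
      Nat.factorization_eq_zero_of_not_dvd (n := 3 ^ 3 * 5 ^ 2 * 13) (by norm_num)]
  have h2 : (2048 : ℕ).factorization 2 = 11 := by
    rw [show 2048 = 2 ^ 11 by norm_num, Nat.prime_two.factorization_pow, Finsupp.single_eq_same]
  rw [hχ, card_tits, h1, h2]

theorem tri_tits' : Tri Cfsg.Lie.TitsGroup := by
  have h : Cfsg.Lie.IsoTits Cfsg.Lie.TitsGroup := ⟨MulEquiv.refl _⟩
  have : Fact (Nat.Prime 2) := ⟨by norm_num⟩
  have : Fact (Nat.Prime 3) := ⟨by norm_num⟩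
  have : Fact (Nat.Prime 13) := ⟨by norm_num⟩
  have : Finite Cfsg.Lie.TitsGroup := Nat.finite_of_card_ne_zero (by rw [card_tits]; norm_num)
  exact tri_of_dz 2 3 13 hasDZ_two (H690.Spor.Tits.hasDZ h (by norm_num) (by norm_num) (by norm_num))
    (H690.Spor.Tits.hasDZ h (by norm_num) (by norm_num) (by norm_num)) (by rw [card_tits]; norm_num)
    (by rw [card_tits]; norm_num) (by rw [card_tits]; norm_num) (by norm_num) (by norm_num) (by norm_num)

/-- **The row of the Tits group.** -/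
theorem tri_tits {K : Type*} [Group K] (h : Cfsg.Lie.IsoTits K) : Tri K := by
  obtain ⟨e⟩ := h
  exact Tri.mulEquiv tri_tits' e.symm

end Cfsg.Agent.H704.Spor49.TitsRow
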