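import Cfsg.Agent.SporadicA.PermTab

/-!
# Centralizers in automorphism groups of graphs given by tables (helper704)

Upper bounds of the centralizer of a permutation in the automorphism group of a graph.
-/

set_option autoImplicit false

namespace Cfsg.Agent.H704.Spor49.PermCent

open Equiv Cfsg.Agent.SporadicA.PermTab

/-- The code of `v`: how `v` is joined to the points `q, w q, ...`. -/
def cd (n A P v : ℕ) (m : ℕ) : ℕ → ℕ :=
  Nat.rec (fun _ => 0) (fun _ ih q => Nat.add (Nat.mul 4 (ih (lk P q))) (cond (Nat.beq q v) 2 (bitM n A v q))) m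

theorem cd_succ (n A P v m q : ℕ) : cd n A P v (m + 1) q =
    4 * cd n A P v m (lk P q) + cond (Nat.beq q v) 2 (bitM n A v q) := rfl

section

variable {n A P : ℕ} {w c : Perm (Fin n)}

theorem beq_eq {a b a' b' : ℕ} (h : a = b ↔ a' = b') : Nat.beq a b = Nat.beq a' b' := by
  rw [Bool.eq_iff_iff, Nat.beq_eq, Nat.beq_eq]
  exact h

theorem cd_inv (hP : ∀ i, (w i : ℕ) = lk P i) (hc : c ∈ autG n A) (hcw : c * w = w * c) (m : ℕ) (v q : Fin n) :
    cd n A P (c v) m (c q) = cd n A P v m q := by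
  induction m generalizing q with
  | zero => rfl
  | succ m ih =>
    have h1 : lk P (c q) = c (w q) := by
      rw [← hP, ← Perm.mul_apply, ← hcw, Perm.mul_apply]
    have h2 : bitM n A (c v) (c q) = bitM n A v q := hc v q
    have h3 : Nat.beq (c q : ℕ) (c v) = Nat.beq (q : ℕ) v := by
      apply beq_eq
      constructor
      · intro h
        rw [c.injective (Fin.ext h)]
      · intro h
        rw [Fin.ext h]
    rw [cd_succ, cd_succ, h1, ih, h2, h3, hP]

/-- The number of points joined to `v`, `w v`, `w ^ 4 v`. -/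
def tri (n A P v : ℕ) : ℕ :=
  Nat.rec 0 (fun z ih => cond (band (Nat.beq (bitM n A v z) 1) (band (Nat.beq (bitM n A (lk P v) z) 1)
    (Nat.beq (bitM n A (lk P (lk P (lk P (lk P v)))) z) 1))) (Nat.succ ih) ih) n

/-- the test in `tri` -/
def triT (n A P v z : ℕ) : Bool :=
  band (Nat.beq (bitM n A v z) 1) (band (Nat.beq (bitM n A (lk P v) z) 1)
    (Nat.beq (bitM n A (lk P (lk P (lk P (lk P v)))) z) 1))

theorem tri_aux (n A P v m : ℕ) : ((Finset.range m).filter (fun z => triT n A P v z = true)).card =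
    Nat.rec 0 (fun z ih => cond (triT n A P v z) (Nat.succ ih) ih) m := by
  induction m with
  | zero => rfl
  | succ m ih =>
    rw [Finset.range_add_one, Finset.filter_insert]
    cases h : triT n A P v m with
    | true =>
      rw [if_pos rfl, Finset.card_insert_of_notMem (by simp), ih]
      simp only [h, cond_true]
    | false =>
      rw [if_neg (by simp), ih]
      simp only [h, cond_false]

theorem tri_eq (n A P v : ℕ) : tri n A P v =
    ((Finset.univ : Finset (Fin n)).filter (fun z : Fin n => triT n A P v z = true)).card := by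
  have h1 : tri n A P v = ((Finset.range n).filter (fun z => triT n A P v z = true)).card :=
    (tri_aux n A P v n).symm
  rw [h1]
  symm
  refine Finset.card_bij (fun i _ => (i : ℕ)) ?_ ?_ ?_
  · intro i hi
    simp only [Finset.mem_filter, Finset.mem_univ, true_and] at hi
    simp [hi, i.2]
  · intro i _ j _ hij
    exact Fin.ext hij
  · intro i hi
    simp only [Finset.mem_filter, Finset.mem_range] at hi
    exact ⟨⟨i, hi.1⟩, by simp [hi.2], rfl⟩

theorem tri_inv (hP : ∀ i, (w i : ℕ) = lk P i) (hc : c ∈ autG n A) (hcw : c * w = w * c) (v : Fin n) :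
    tri n A P (c v) = tri n A P v := by
  rw [tri_eq, tri_eq]
  have h1 : ∀ q : Fin n, lk P (c q) = c (w q) := by
    intro q
    rw [← hP, ← Perm.mul_apply, ← hcw, Perm.mul_apply]
  have h2 : ∀ q : Fin n, lk P q = w q := fun q => (hP q).symm
  symm
  refine Finset.card_bij (fun i _ => c i) ?_ ?_ ?_
  · intro z hz
    simp only [Finset.mem_filter, Finset.mem_univ, true_and] at hz ⊢
    unfold triT at hz ⊢
    rw [h1, h1, h1, h1]
    rw [h2, h2, h2, h2] at hz
    rw [hc, hc, hc]
    exact hz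
  · intro i _ j _ hij
    exact c.injective hij
  · intro z hz
    refine ⟨c⁻¹ z, ?_, by simp⟩
    simp only [Finset.mem_filter, Finset.mem_univ, true_and] at hz ⊢
    unfold triT at hz ⊢
    rw [h1, h1, h1, h1] at hz
    rw [h2, h2, h2, h2]
    have h3 : z = c (c⁻¹ z) := by simp
    rw [h3, hc, hc, hc] at hz
    exact hz

/-- the points `q, w q, ...` -/
def orbL (P : ℕ) (m : ℕ) : ℕ → List ℕ := Nat.rec (fun _ => []) (fun _ ih q => q :: ih (lk P q)) m

/-- The point is fixed. -/
def Fx (c : Perm (Fin n)) (f : ℕ) : Prop := f < n ∧ ∀ i : Fin n, (i : ℕ) = f → c i = i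

theorem fx_step (hP : ∀ i, (w i : ℕ) = lk P i) (hcw : c * w = w * c) {q : ℕ} (h : Fx c q) : Fx c (lk P q) := by
  obtain ⟨h1, h2⟩ := h
  have h3 : lk P q = w ⟨q, h1⟩ := (hP ⟨q, h1⟩).symm
  refine ⟨by rw [h3]; exact (w ⟨q, h1⟩).2, fun i hi => ?_⟩
  have h4 : i = w ⟨q, h1⟩ := Fin.ext (by rw [hi, h3])
  rw [h4, ← Perm.mul_apply, hcw, Perm.mul_apply, h2 ⟨q, h1⟩ rfl]

theorem fx_orbL (hP : ∀ i, (w i : ℕ) = lk P i) (hcw : c * w = w * c) (m : ℕ) {q : ℕ} (h : Fx c q) :
    ∀ f ∈ orbL P m q, Fx c f := by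
  induction m generalizing q with
  | zero => exact fun f hf => absurd hf List.not_mem_nil
  | succ m ih =>
    intro f hf
    have h1 : orbL P (m + 1) q = q :: orbL P m (lk P q) := rfl
    rw [h1] at hf
    rcases List.mem_cons.1 hf with h2 | h2
    · rw [h2]; exact h
    · exact ih (fx_step hP hcw h) f h2

/-- A point determined by the code and the joins to fixed points is fixed. -/
theorem fx_of_cnt (hP : ∀ i, (w i : ℕ) = lk P i) (hc : c ∈ autG n A) (hcw : c * w = w * c) {F : List ℕ}
    (hF : ∀ f ∈ F, Fx c f) (y m : ℕ) (hy : y < n) (hyF : notMemB y F = true)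
    (h : cntB (fun v => band (Nat.beq (cd n A P v m v) (cd n A P y m y)) (patt n A F y v)) n 1 = true) : Fx c y := by
  have h1 := card_fin_of_cntB _ n 1 h
  rw [Finset.card_eq_one] at h1
  obtain ⟨a, ha⟩ := h1
  have hmem : ∀ v : Fin n, cd n A P v m v = cd n A P y m y → patt n A F y v = true → v = a := by
    intro v h2 h3
    have h4 : v ∈ ({a} : Finset (Fin n)) := by
      rw [← ha]
      simp only [Finset.mem_filter, Finset.mem_univ, true_and, band_eq_true]
      exact ⟨by rw [h2]; exact Nat.beq_refl _, h3⟩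
    exact Finset.mem_singleton.1 h4
  rw [notMemB_iff] at hyF
  have e1 := hmem ⟨y, hy⟩ rfl ((patt_iff n A F y y).2 fun f hf => ⟨rfl, fun h => hyF (h ▸ hf)⟩)
  have e2 := hmem (c ⟨y, hy⟩) (cd_inv hP hc hcw m ⟨y, hy⟩ ⟨y, hy⟩) ((patt_iff n A F y _).2 fun f hf => by
    obtain ⟨hf1, hf2⟩ := hF f hf
    have hcf := hf2 ⟨f, hf1⟩ rfl
    constructor
    · have h5 := hc ⟨y, hy⟩ ⟨f, hf1⟩
      rw [hcf] at h5
      exact h5
    · intro h6
      have h7 : c ⟨y, hy⟩ = c ⟨f, hf1⟩ := by rw [hcf]; exact Fin.ext h6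
      have h8 := c.injective h7
      rw [Fin.mk.injEq] at h8
      exact hyF (h8 ▸ hf))
  refine ⟨hy, fun i hi => ?_⟩
  have h9 : i = ⟨y, hy⟩ := Fin.ext hi
  rw [h9, e2, ← e1]

theorem card_le_of {H : Subgroup (Perm (Fin n))} (y : Fin n) (t : ℕ → Bool) (ht : ∀ c ∈ H, t (c y) = true)
    {m k : ℕ} (hm : cntB t n m = true) (hk : Nat.card (ps H y) ≤ k) : Nat.card H ≤ m * k := by
  refine card_le H y _ (fun c hc => ?_) (card_fin_of_cntB _ n m hm) hk
  simp only [Finset.mem_filter, Finset.mem_univ, true_and]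
  exact ht c hc

/-- The number of points joined to their image. -/
def ac (n A : ℕ) (g : Perm (Fin n)) : ℕ :=
  ((Finset.univ : Finset (Fin n)).filter (fun i : Fin n => bitM n A i (g i) = 1)).card

theorem ac_conj (hc : c ∈ autG n A) (g : Perm (Fin n)) : ac n A (c * g * c⁻¹) = ac n A g := by
  unfold ac
  symm
  refine Finset.card_bij (fun i _ => c i) ?_ ?_ ?_
  · intro i hi
    simp only [Finset.mem_filter, Finset.mem_univ, true_and] at hi ⊢
    rw [Perm.mul_apply, Perm.mul_apply, show c⁻¹ (c i) = i by simp, hc]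
    exact hi
  · intro i _ j _ hij
    exact c.injective hij
  · intro z hz
    refine ⟨c⁻¹ z, ?_, by simp⟩
    simp only [Finset.mem_filter, Finset.mem_univ, true_and] at hz ⊢
    have h3 : z = c (c⁻¹ z) := by simp
    rw [h3, Perm.mul_apply, Perm.mul_apply, show c⁻¹ (c (c⁻¹ z)) = c⁻¹ z by simp, hc] at hz
    exact hz

theorem ac_of_cnt {g : Perm (Fin n)} {f : ℕ → ℕ} (hf : ∀ i : Fin n, (g i : ℕ) = f i) {m : ℕ}
    (h : cntB (fun i => Nat.beq (bitM n A i (f i)) 1) n m = true) : ac n A g = m := by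
  rw [← card_fin_of_cntB _ n m h]
  unfold ac
  congr 1
  ext i
  simp only [Finset.mem_filter, Finset.mem_univ, true_and, Nat.beq_eq, hf]

end

end Cfsg.Agent.H704.Spor49.PermCent
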