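import Cfsg.Agent.H695.Spor.Tool

/-!
# Rows of S4849 from two primes of defect zero (helper704)

* `exists_mixed`: if not all `p`-singular elements have order `p`, then some element of order divisible by `p`
  and prime to `q` has order different from `p`, except when the centralizers of the elements of order `p`
  have order `p * q`, which Sylow's theorem excludes in the examples;
* `row49_of_two`: the row.
-/

set_option autoImplicit false

namespace Cfsg.Agent.H704.Spor49

open Cfsg Cfsg.Agent.H695 Cfsg.Agent.H713 Cfsg.Agent.H713.Count Cfsg.Agent.H665.NoPQ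

variable {S : Type*} [Group S]

/-- If not all `p`-singular elements have order `p`. -/
theorem exists_mixed [Finite S] {p q : ℕ} [hp : Fact p.Prime] [hq : Fact q.Prime] (hpq : p ≠ q)
    (hGp : (Nat.card S).factorization p = 1) (hGq : (Nat.card S).factorization q = 1)
    (hniso : ∃ y : S, p ∣ orderOf y ∧ orderOf y ≠ p)
    (hne : ∀ e, e ∣ p - 1 → ¬ e * q ≡ Nat.card S / p [MOD p]) :
    ∃ z : S, p ∣ orderOf z ∧ ¬ q ∣ orderOf z ∧ (orderOf z).primeFactors ≠ {p} := by
  classical
  by_contra hcon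
  push Not at hcon
  obtain ⟨y, hy, hyp⟩ := hniso
  obtain ⟨k, hk⟩ := hy
  have hk0 : 0 < k := by
    rcases Nat.eq_zero_or_pos k with h | h
    · exfalso
      rw [h, mul_zero] at hk
      exact (orderOf_pos y).ne' hk
    · exact h
  set x := y ^ k with hx
  have hxo : orderOf x = p := by
    rw [hx, orderOf_pow, hk, Nat.gcd_eq_right (Dvd.intro_left p rfl), Nat.mul_div_cancel _ hk0]
  have hp0 := hp.out.pos
  -- all primes dividing the order of the centralizer are `p` and `q`
  have hprime : ∀ r : ℕ, r.Prime → r ∣ Nat.card (Subgroup.centralizer ({x} : Set S)) → r = p ∨ r = q := by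
    intro r hr hrd
    by_contra hno
    push Not at hno
    have : Fact r.Prime := ⟨hr⟩
    obtain ⟨⟨w, hw⟩, hwo⟩ := exists_prime_orderOf_dvd_card' r hrd
    rw [Subgroup.orderOf_mk] at hwo
    have hcomm : Commute x w := (Subgroup.mem_centralizer_singleton_iff.1 hw).symm
    have hco : (orderOf x).Coprime (orderOf w) := by
      rw [hxo, hwo]
      exact (Nat.coprime_primes hp.out hr).2 (Ne.symm hno.1)
    have ho : orderOf (x * w) = p * r := by
      rw [hcomm.orderOf_mul_eq_mul_orderOf_of_coprime hco, hxo, hwo]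
    have h1 := hcon (x * w) (by rw [ho]; exact dvd_mul_right p r) (by
      rw [ho, hq.out.dvd_mul, Nat.prime_dvd_prime_iff_eq hq.out hp.out, Nat.prime_dvd_prime_iff_eq hq.out hr]
      rintro (h | h)
      · exact hpq h.symm
      · exact hno.2 h.symm)
    have h2 : r ∈ (orderOf (x * w)).primeFactors :=
      Nat.mem_primeFactors.2 ⟨hr, by rw [ho]; exact dvd_mul_left r p, (orderOf_pos _).ne'⟩
    rw [h1, Finset.mem_singleton] at h2
    exact hno.1 h2
  set C := Subgroup.centralizer ({x} : Set S) with hC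
  have hCS : Nat.card C ∣ Nat.card S := Subgroup.card_subgroup_dvd_card C
  have hC0 : Nat.card C ≠ 0 := Nat.card_pos.ne'
  have hfac : ∀ r, (Nat.card C).factorization r ≤ (Nat.card S).factorization r := fun r =>
    (Nat.factorization_le_iff_dvd hC0 Nat.card_pos.ne').2 hCS r
  have hxC : x ∈ C := Subgroup.mem_centralizer_singleton_iff.2 rfl
  have hyC : y ∈ C := Subgroup.mem_centralizer_singleton_iff.2 (by rw [hx, ← pow_succ, ← pow_succ'])
  have hpC : p ∣ Nat.card C := by
    rw [← hxo, ← Subgroup.orderOf_mk x hxC]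
    exact orderOf_dvd_natCard _
  obtain ⟨c, hc⟩ := hpC
  -- `c` is `1` or `q`
  have hc0 : c ≠ 0 := by
    rintro rfl
    rw [mul_zero] at hc
    exact hC0 hc
  have hcp : ¬ p ∣ c := by
    intro h
    have h1 : p ^ 2 ∣ Nat.card C := by rw [hc, pow_two]; exact Nat.mul_dvd_mul_left p h
    have h2 := (hp.out.pow_dvd_iff_le_factorization hC0).1 h1
    have h3 := hfac p
    omega
  have hcq : ∀ r : ℕ, r.Prime → r ∣ c → r = q := by
    intro r hr hrc
    rcases hprime r hr (by rw [hc]; exact hrc.mul_left p) with h | h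
    · exact absurd (h ▸ hrc) hcp
    · exact h
  have hc' : c = 1 ∨ c = q := by
    have h1 : c = q ^ (c.primeFactorsList.length) := Nat.eq_prime_pow_of_unique_prime_dvd hc0 (fun {r} hr hrc => hcq r hr hrc)
    have h2 : c.primeFactorsList.length < 2 := by
      by_contra h
      have h3 : q ^ 2 ∣ Nat.card C := by
        rw [hc]
        refine Dvd.dvd.mul_left ?_ p
        rw [h1]
        exact pow_dvd_pow q (by omega)
      have h4 := (hq.out.pow_dvd_iff_le_factorization hC0).1 h3
      have h5 := hfac q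
      omega
    generalize c.primeFactorsList.length = n at h1 h2
    rcases (show n = 0 ∨ n = 1 by omega) with rfl | rfl
    · left; rw [h1, pow_zero]
    · right; rw [h1, pow_one]
  rcases hc' with hc1 | hc1
  · -- the element `y` would have order `p`
    apply hyp
    have h1 : orderOf y ∣ p := by
      have : orderOf (⟨y, hyC⟩ : C) ∣ Nat.card C := orderOf_dvd_natCard _
      rwa [Subgroup.orderOf_mk, hc, hc1, mul_one] at this
    rcases (Nat.dvd_prime hp.out).1 h1 with h2 | h2
    · exfalso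
      rw [hk] at h2
      have := Nat.eq_one_of_mul_eq_one_right h2
      exact hp.out.one_lt.ne' this
    · exact h2
  · -- Sylow
    have h1 := card_fus_mul hGp hxo hc
    rw [hc1] at h1
    refine hne _ ?_ h1
    rw [← card_fus_mul_card_sing (p := p) (x := x) (by rw [← hxo]; exact pow_orderOf_eq_one x)]
    exact dvd_mul_right _ _

/-- **The row from two primes.** -/
theorem row49_of_two [Finite S] [IsSimpleGroup S] (hna : ∃ a b : S, a * b ≠ b * a) {p q : ℕ} [hp : Fact p.Prime]
    [hq : Fact q.Prime] (hpq : p ≠ q) (hGp : (Nat.card S).factorization p = 1)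
    (hGq : (Nat.card S).factorization q = 1)
    (hout : ((MulAut.conj : S →* MulAut S).range).index ∣ 2) (hdp : HasDZ p S) (hdq : HasDZ q S)
    (hnep : ∀ e, e ∣ p - 1 → ¬ e * q ≡ Nat.card S / p [MOD p])
    (hneq : ∀ e, e ∣ q - 1 → ¬ e * p ≡ Nat.card S / q [MOD q]) : Row49 S := by
  by_cases hip : ∀ y : S, p ∣ orderOf y → orderOf y = p
  · exact (Third.tri hna hpq hGp hGq hip hout hdp hdq).row49
  by_cases hiq : ∀ y : S, q ∣ orderOf y → orderOf y = q
  · exact (Third.tri hna (Ne.symm hpq) hGq hGp hiq hout hdq hdp).row49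
  push Not at hip hiq
  obtain ⟨z, hz, hzq, hzf⟩ := exists_mixed hpq hGp hGq hip hnep
  obtain ⟨w, hw, hwp, hwf⟩ := exists_mixed (Ne.symm hpq) hGq hGp hiq hneq
  have dvd : ∀ r : ℕ, (Nat.card S).factorization r = 1 → r ∣ Nat.card S := fun r hr => by
    have := Nat.ordProj_dvd (Nat.card S) r
    rwa [hr, pow_one] at this
  obtain ⟨x, hx⟩ := exists_prime_orderOf_dvd_card' p (dvd p hGp)
  obtain ⟨y, hy⟩ := exists_prime_orderOf_dvd_card' q (dvd q hGq)
  have vx : VZ S x := HasDZ.vz hdp (by rw [hx])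
  have vy : VZ S y := HasDZ.vz hdq (by rw [hy])
  have vz : VZ S z := HasDZ.vz hdp hz
  have vw : VZ S w := HasDZ.vz hdq hw
  intro l hl
  by_cases hlp : l = p
  · subst hlp
    refine ⟨y, w, vy, vw, ?_, hwp, ?_⟩
    · rw [hy, Nat.prime_dvd_prime_iff_eq hl hq.out]; exact hpq
    · rw [hy, hq.out.primeFactors]; exact fun h => hwf h.symm
  by_cases hlq : l = q
  · subst hlq
    refine ⟨x, z, vx, vz, ?_, hzq, ?_⟩
    · rw [hx, Nat.prime_dvd_prime_iff_eq hl hp.out]; exact fun h => hpq h.symm
    · rw [hx, hp.out.primeFactors]; exact fun h => hzf h.symm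
  · refine ⟨x, y, vx, vy, ?_, ?_, ?_⟩
    · rw [hx, Nat.prime_dvd_prime_iff_eq hl hp.out]; exact hlp
    · rw [hy, Nat.prime_dvd_prime_iff_eq hl hq.out]; exact hlq
    · rw [hx, hy, hp.out.primeFactors, hq.out.primeFactors]
      exact fun h => hpq (Finset.singleton_injective h)

/-- If not all `p`-singular elements have order `p` and no element has order `p * q`. -/
theorem exists_mixed' [Finite S] {p q : ℕ} (hp : p.Prime) (hq : q.Prime) (hpq : p ≠ q)
    (hGp : (Nat.card S).factorization p = 1) (hniso : ∃ y : S, p ∣ orderOf y ∧ orderOf y ≠ p)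
    (hne : ∀ z : S, orderOf z ≠ p * q) :
    ∃ z : S, p ∣ orderOf z ∧ ¬ q ∣ orderOf z ∧ (orderOf z).primeFactors ≠ {p} := by
  obtain ⟨y, hy, hyp⟩ := hniso
  have hy0 := orderOf_pos y
  obtain ⟨k, hk⟩ := hy
  have hk1 : k ≠ 1 := by
    rintro rfl
    rw [mul_one] at hk
    exact hyp hk
  obtain ⟨r, hr, j, hj⟩ := Nat.exists_prime_and_dvd hk1
  have hrp : r ≠ p := by
    rintro rfl
    have h1 : r ^ 2 ∣ Nat.card S := by
      refine Dvd.dvd.trans ?_ (orderOf_dvd_natCard y)
      rw [hk, hj, ← mul_assoc, ← pow_two]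
      exact dvd_mul_right _ _
    have h2 := (hr.pow_dvd_iff_le_factorization Nat.card_pos.ne').1 h1
    omega
  have hjo : orderOf y = p * r * j := by rw [hk, hj, mul_assoc]
  have hj0 : j ≠ 0 := by
    rintro rfl
    rw [mul_zero] at hjo
    omega
  have ho : orderOf (y ^ j) = p * r := by
    rw [orderOf_pow, hjo, Nat.gcd_eq_right (dvd_mul_left j (p * r)), Nat.mul_div_cancel _ (Nat.pos_of_ne_zero hj0)]
  have hrq : r ≠ q := by
    rintro rfl
    exact hne _ ho
  refine ⟨y ^ j, by rw [ho]; exact dvd_mul_right p r, ?_, ?_⟩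
  · rw [ho, hq.dvd_mul, Nat.prime_dvd_prime_iff_eq hq hp, Nat.prime_dvd_prime_iff_eq hq hr]
    rintro (h | h)
    · exact hpq h.symm
    · exact hrq h.symm
  · intro h
    have h2 : r ∈ (orderOf (y ^ j)).primeFactors :=
      Nat.mem_primeFactors.2 ⟨hr, by rw [ho]; exact dvd_mul_left r p, (orderOf_pos _).ne'⟩
    rw [h, Finset.mem_singleton] at h2
    exact hrp h2

/-- **The row from two primes** when no element has order `p * q`. -/
theorem row49_of_two' [Finite S] [IsSimpleGroup S] (hna : ∃ a b : S, a * b ≠ b * a) {p q : ℕ} [hp : Fact p.Prime]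
    [hq : Fact q.Prime] (hpq : p ≠ q) (hGp : (Nat.card S).factorization p = 1)
    (hGq : (Nat.card S).factorization q = 1)
    (hout : ((MulAut.conj : S →* MulAut S).range).index ∣ 2) (hdp : HasDZ p S) (hdq : HasDZ q S)
    (hne : ∀ z : S, orderOf z ≠ p * q) : Row49 S := by
  by_cases hip : ∀ y : S, p ∣ orderOf y → orderOf y = p
  · exact (Third.tri hna hpq hGp hGq hip hout hdp hdq).row49
  by_cases hiq : ∀ y : S, q ∣ orderOf y → orderOf y = q
  · exact (Third.tri hna (Ne.symm hpq) hGq hGp hiq hout hdq hdp).row49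
  push Not at hip hiq
  obtain ⟨z, hz, hzq, hzf⟩ := exists_mixed' hp.out hq.out hpq hGp hip hne
  obtain ⟨w, hw, hwp, hwf⟩ := exists_mixed' hq.out hp.out (Ne.symm hpq) hGq hiq (fun z hz =>
    hne z (by rw [hz, mul_comm]))
  have dvd : ∀ r : ℕ, (Nat.card S).factorization r = 1 → r ∣ Nat.card S := fun r hr => by
    have := Nat.ordProj_dvd (Nat.card S) r
    rwa [hr, pow_one] at this
  obtain ⟨x, hx⟩ := exists_prime_orderOf_dvd_card' p (dvd p hGp)
  obtain ⟨y, hy⟩ := exists_prime_orderOf_dvd_card' q (dvd q hGq)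
  have vx : VZ S x := HasDZ.vz hdp (by rw [hx])
  have vy : VZ S y := HasDZ.vz hdq (by rw [hy])
  have vz : VZ S z := HasDZ.vz hdp hz
  have vw : VZ S w := HasDZ.vz hdq hw
  intro l hl
  by_cases hlp : l = p
  · subst hlp
    refine ⟨y, w, vy, vw, ?_, hwp, ?_⟩
    · rw [hy, Nat.prime_dvd_prime_iff_eq hl hq.out]; exact hpq
    · rw [hy, hq.out.primeFactors]; exact fun h => hwf h.symm
  by_cases hlq : l = q
  · subst hlq
    refine ⟨x, z, vx, vz, ?_, hzq, ?_⟩
    · rw [hx, Nat.prime_dvd_prime_iff_eq hl hp.out]; exact fun h => hpq h.symm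
    · rw [hx, hp.out.primeFactors]; exact fun h => hzf h.symm
  · refine ⟨x, y, vx, vy, ?_, ?_, ?_⟩
    · rw [hx, Nat.prime_dvd_prime_iff_eq hl hp.out]; exact hlp
    · rw [hy, Nat.prime_dvd_prime_iff_eq hl hq.out]; exact hlq
    · rw [hx, hy, hp.out.primeFactors, hq.out.primeFactors]
      exact fun h => hpq (Finset.singleton_injective h)

end Cfsg.Agent.H704.Spor49
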